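import Cfsg.Agent.Lib.Helper19.Hed.Main
import Cfsg.Agent.Lib.Helper19.TC2R

/-! Generated file: certificates for the order of a presented group. -/

set_option autoImplicit false
set_option maxRecDepth 1000000

namespace Cfsg.Agent.Lib.Helper19.OrdHe.LW

open Cfsg.Agent.Lib.Helper19.TCS (evn evn_rot evn_rev evn_pair AllS forall_of_allS lift_rels mk_eq_lift cox_swap shapeI prod_rep index_of_equiv orbit_ncard orbit_image ncard_interval fix_of_closure RC)
open Cfsg.Agent.Lib.Helper19.TC2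
open Cfsg.Spor Cfsg.Agent.Lib.Helper19.PresHe
open Cfsg.Agent.Lib.Helper19.Hed


noncomputable def EO0 : Tb := (.node (.node (.node (.node (.leaf 0x600580a9400580a8700540a7600540a6400540a5700500a46004c0a32004c0a2700480a1600480a04004809f6004009e2004009d7003c09c6003c09b5003c09a4003c0991003c098600380974003809600038095700340944003409370030092500300917002c0905002c08f4002c08e7002808d5002808c4002808b3002808a2002808960020088200200876001c0865001c0852001c084700180836001808240018081300180801001807f6001407e5001407d2001407c6001007b5001007a200100797000c0785000c0774000c0763000c0751000c074600080735000807230008071200080700000806f7000406e2000406d7000006c1000006b0000006a) (.leaf 0x305ac2a9705a82a8205a82a72059c2a6205982a52058c2a4205882a34057c2a22057c2a1705782a07056c29f2056c29e7056829d1056829c2055c29b7055829a20558299505542983055429710554296705502957054c2946054c2933054c2921054c291505482903054828f7054428e4054428d2054428c5054028b7053c28a6053c289205382885053428730534286105342857052c284705182832051428270508281205082802050027f204ec27e504e827d104e827c704dc27b204d827a204bc279204b8278404b4277704ac276704a8275504a8274104a8273404a4272504a0271104982707049026f2048826e7048426d2047426c5047026b7046826a))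 (.leaf 0x602401a96023c1a82023c1a7502381a6502341a5202341a4702301a3702281a2302281a1702201a06022019f7021c19e6021c19d4021c19c7021819b3021819a5021419940214198702101977020c1965020c1952020c194502081934020819270204191702001906020018f4020018e2020018d701fc18c101fc18b701f818a601f8189401f8188101f8187701f4186401f0185501ec184201ec183701e4182601e4181201e4180701e017f601e017e501e017d101e017c201d817b401d017a201d0179701cc178601cc177501cc176201cc175701c8174601c8173501c8172201c8171601c0170501c016f601bc16e501bc16d301bc16c201bc16b001bc16a)) (.node (.node (.leaf 0x40148129301481287014412770140126601401257013c1246013c1234013c1222013c121201381207013411f6013011e4013011d1013011c5012c11b7012411a6012411940124118601201175011c1167011411560114114401141132011411270110111601101105011010f2011010e5010c10d7010810c6010810b5010810a201081097010410850100107600f8106200f8105700f4104500f4103700f0102600ec101200ec100700e00ff600e00fe400e00fd100e00fc600dc0fb500dc0fa400dc0f9700d80f8700d40f7600d40f6700d00f5700cc0f4600cc0f3400cc0f2300cc0f1100cc0f0700c80ef500c80ee400c80ed700c40ec100c40eb700c00ea)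 (.leaf 0x60920329309203287091432760914326409143257090c32470908323408fc322708e4321208c0320708b831f508b031e208ac31d608a031c7089c31b6089c31a3089c3197089831870890317308903167088831570884314708743137085831230850311208343102083030f5082c30e4082c30d7082830c707f430b107f430a707d4309307d0308107d0307707cc306607cc305407cc304707c8303607c4302707bc301707b8300707b42ff207a82fe607942fd607902fc607882fb207882fa6077c2f95077c2f84077c2f73077c2f6707742f5307742f4107742f3707542f2507502f1707442f0607442ef507442ee407442ed107442ec707402eb7073c2ea)) (.leaf 0x503b0229203b0228703ac227603ac226103ac225203a8224603a4223203a4222003a4221703a02204039c21f7039821e4039821d3039821c2039821b2039421a7039021960384218603802175038021620380215003802147037c2137037821250378211203782102037020f7036c20e4036c20d6035c20c5035c20b6035820a50358209403582081035820720354206303482057034020460340203203402020034020170338200603381ff303381fe503341fd203341fc303301fb103301fa7032c1f93032c1f81032c1f7603281f6203281f5703201f4603201f3203201f24031c1f13031c1f01031c1ef703141ee603141ed203141ec503101eb303101ea)))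 (.node (.node (.node (.leaf 0x600c00e9200c00e8600bc0e7200b80e6700b00e5600b00e4500b00e3200b00e2600ac0e1400ac0e0600a80df500a80de400a80dd300a80dc200a80db000a80da700a40d9200a40d8600a00d7500a00d6300a00d5200a00d4000a00d37009c0d22009c0d1600980d0400980cf700940ce200940cd200900cc5008c0cb3008c0ca2008c0c9700880c8400880c7200880c6500840c5200840c4500800c3400800c26007c0c15007c0c04007c0bf3007c0be700780bd700740bc600740bb400740ba100740b9700700b86006c0b72006c0b6700680b5600680b4500680b3400680b2700640b1600640b0500640af400640ae700600ad7005c0ac6005c0ab700580aa) (.leaf 0x707342e9207342e8707282e7407182e6707142e5407142e46070c2e3707082e2307082e1107082e0706f82df606f82de706f42dd206f42dc706f02db106f02da206ec2d9606dc2d8606d02d7206d02d6606c42d5406c42d4306c42d3706c02d2106c02d1706b02d0606a82cf506a82ce606a42cd506a42cc606a02cb506a02ca506982c9306982c8106982c72068c2c6606782c5406702c4106702c3506682c27065c2c1706582c0706542bf0063c2be206282bd706042bc305fc2bb505f82ba305f82b9105f82b8205e82b7205e42b6705e02b5505e02b4305e02b3105e02b2205d42b1205cc2b0705c82af605c82ae405c82ad205c42ac505bc2ab405ac2aa))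 (.leaf 0x103101e9203081e8403041e7403001e6103001e5702fc1e4502fc1e3202fc1e2702f81e1402f41e0702f01df602f01de502f01dd202f01dc702ec1db702e81da202e81d9702e41d8202e01d7502d81d6202d41d5702cc1d4702c81d3702c41d2402c41d1702c01d0402c01cf202c01ce702bc1cd702b81cc702b01cb702ac1ca702a81c9602a41c8202a41c7702a01c65029c1c5702901c4302901c3102901c24028c1c1502881c0202881bf602801be202801bd7027c1bc5027c1bb3027c1ba1027c1b9502781b8202781b76026c1b65026c1b51026c1b4502601b37025c1b2602581b1502581b0102581af702541ae702501ad7024c1ac6024c1ab702481aa)) (.node (.node (.leaf 0x701b8169501b8168301b8167101b8166701b0165601b0164201b0163701ac162601ac161201ac160701a815f601a815e501a815d401a815c301a815b101a815a201a4159601a0158501a0157301a0156201a0155001a01547019c1534019c1523019c1511019c1505019414f2019414e6019014d5019014c2019014b7018814a501881491018814870184147401841465017c14570178144601781435017814230178141201781400017813f7017013e3017013d1017013c7016c13b7016813a301681391016813870164137201641362016013570158134601581334015813220158131601541305015412f2015412e5015012d4015012c2014c12b7014812a)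 (.leaf 0x70a8033960a6833870a0833750a0433670a00335609e0334309e0333609d4332109bc331709983307096032f3094c32e1094c32d5093432c3093432b7092832a)) (.leaf 0x2046826910464268204602677045c266704582657045426430454263104502627044c261204482607044425f2044025e7042c25d6042c25c3042c25b2042825a2040c259704042586040425750404256404042551040425420400253603fc252503fc251203fc250003fc24f703f424e503f424d703f024c503f024b303f024a203f0249703ec248203ec247703e8246203e0245703d8244603d8243503d8242703d4241603d4240503d423f403d423e103d423d703d023c703cc23b603cc23a403cc239703c8238503c8237703c4236603c4235503c4234403c4233603c0232403c0231303c0230503bc22f403bc22e103bc22d203b422c703b022b603b022a))))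

noncomputable def PO0 : Tb := (.node (.node (.node (.node (.node (.node (.node (.node (.leaf 0x0) (.leaf 0x0)) (.leaf 0x0)) (.node (.leaf 0x0) (.leaf 0x0))) (.node (.node (.leaf 0x0) (.leaf 0x0)) (.node (.leaf 0x0) (.leaf 0x0)))) (.node (.node (.node (.leaf 0x7541d4074c1d207441d0073c1ce07341cc072c1ca07241c8071c1c607141c4070c1c207041c006fc1be06f41bc06ec1ba06e41b806dc1b606d41b406cc1b206c41b006bc1ae06b41ac06ac1aa06a41a8069c1a606941a4068c1a206841a0067c19e067419c066c19a0664198065c196) (.leaf 0x0)) (.node (.leaf 0x0) (.leaf 0x0))) (.node (.node (.leaf 0x0) (.leaf 0x0)) (.node (.leaf 0x0) (.leaf 0x0))))) (.node (.node (.node (.node (.leaf 0x3540d4034c0d203440d0033c0ce03340cc032c0ca03240c8031c0c603140c4030c0c203040c002fc0be02f40bc02ec0ba02e40b802dc0b602d40b402cc0b202c40b002bc0ae02b40ac02ac0aa02a40a8029c0a602940a4028c0a202840a0027c09e027409c026c09a0264098025c096) (.leaf 0x0)) (.node (.leaf 0x0) (.leaf 0x0))) (.node (.node (.leaf 0x0) (.leaf 0x0)) (.node (.leaf 0x0)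 (.leaf 0x0)))) (.node (.node (.node (.leaf 0xb3c2ce0b342cc0b2c2ca0b242c80b1c2c60b142c40b0c2c20b042c00afc2be0af42bc0aec2ba0ae42b80adc2b60ad42b40acc2b20ac42b00abc2ae0ab42ac0aac2aa0aa42a80a9c2a60a942a40a8c2a20a842a00a7c29e0a7429c0a6c29a0a642980a5c296) (.leaf 0x0)) (.node (.leaf 0x0) (.leaf 0x0))) (.node (.node (.leaf 0x0) (.leaf 0x0)) (.node (.leaf 0x0) (.leaf 0x0)))))) (.node (.node (.node (.node (.node (.node (.leaf 0x154054014c0520144050013c04e013404c012c04a0124048011c0460114044010c042010404000fc03e00f403c00ec03a00e403800dc03600d403400cc03200c403000bc02e00b402c00ac02a00a4028009c0260094024008c0220084020007c01e007401c006c01a0064018005c016) (.leaf 0x0)) (.leaf 0x0)) (.node (.leaf 0x0) (.leaf 0x0))) (.node (.node (.leaf 0x0) (.leaf 0x0)) (.node (.leaf 0x0) (.leaf 0x0)))) (.node (.node (.node (.leaf 0x954254094c2520944250093c24e093424c092c24a0924248091c2460914244090c242090424008fc23e08f423c08ec23a08e423808dc23608d423408cc23208c423008bc22e08b422c08ac22a08a4228089c2260894224088c2220884220087c21e087421c086c21a0864218085c216)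 (.leaf 0x0)) (.node (.leaf 0x0) (.leaf 0x0))) (.node (.node (.leaf 0x0) (.leaf 0x0)) (.node (.leaf 0x0) (.leaf 0x0))))) (.node (.node (.node (.node (.leaf 0x554154054c1520544150053c14e053414c052c14a0524148051c1460514144050c142050414004fc13e04f413c04ec13a04e413804dc13604d413404cc13204c413004bc12e04b412c04ac12a04a4128049c1260494124048c1220484120047c11e047411c046c11a0464118045c116) (.leaf 0x0)) (.node (.leaf 0x0) (.leaf 0x0))) (.node (.node (.leaf 0x0) (.leaf 0x0)) (.node (.leaf 0x0) (.leaf 0x0)))) (.node (.node (.node (.leaf 0x0) (.leaf 0x0)) (.node (.leaf 0x0) (.leaf 0x0))) (.node (.node (.leaf 0x0) (.leaf 0x0)) (.node (.leaf 0x0) (.leaf 0x0))))))) (.node (.node (.node (.node (.node (.node (.node (.leaf 0x54014004c0120044010003c00e003400c002c00a0024008001c0060014004000c0020004000000000000000000000000000000000000000000000000000000000000000000000000000000000000000000000000000000000000000000000000000000000000000000000000000000) (.leaf 0x0)) (.leaf 0x0)) (.node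 (.leaf 0x0) (.leaf 0x0))) (.node (.node (.leaf 0x0) (.leaf 0x0)) (.node (.leaf 0x0) (.leaf 0x0)))) (.node (.node (.node (.leaf 0x854214084c2120844210083c20e083420c082c20a0824208081c2060814204080c202080420007fc1fe07f41fc07ec1fa07e41f807dc1f607d41f407cc1f207c41f007bc1ee07b41ec07ac1ea07a41e8079c1e607941e4078c1e207841e0077c1de07741dc076c1da07641d8075c1d6) (.leaf 0x0)) (.node (.leaf 0x0) (.leaf 0x0))) (.node (.node (.leaf 0x0) (.leaf 0x0)) (.node (.leaf 0x0) (.leaf 0x0))))) (.node (.node (.node (.node (.leaf 0x454114044c1120444110043c10e043410c042c10a0424108041c1060414104040c102040410003fc0fe03f40fc03ec0fa03e40f803dc0f603d40f403cc0f203c40f003bc0ee03b40ec03ac0ea03a40e8039c0e603940e4038c0e203840e0037c0de03740dc036c0da03640d8035c0d6) (.leaf 0x0)) (.node (.leaf 0x0) (.leaf 0x0))) (.node (.node (.leaf 0x0) (.leaf 0x0)) (.node (.leaf 0x0) (.leaf 0x0)))) (.node (.node (.node (.leaf 0x0) (.leaf 0x0)) (.node (.leaf 0x0) (.leaf 0x0))) (.node (.node (.leaf 0x0) (.leaf 0x0))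 (.node (.leaf 0x0) (.leaf 0x0)))))) (.node (.node (.node (.node (.node (.leaf 0x254094024c0920244090023c08e023408c022c08a0224088021c0860214084020c082020408001fc07e01f407c01ec07a01e407801dc07601d407401cc07201c407001bc06e01b406c01ac06a01a4068019c0660194064018c0620184060017c05e017405c016c05a0164058015c056) (.leaf 0x0)) (.node (.leaf 0x0) (.leaf 0x0))) (.node (.node (.leaf 0x0) (.leaf 0x0)) (.node (.leaf 0x0) (.leaf 0x0)))) (.node (.node (.node (.leaf 0xa542940a4c2920a442900a3c28e0a3428c0a2c28a0a242880a1c2860a142840a0c2820a0428009fc27e09f427c09ec27a09e427809dc27609d427409cc27209c427009bc26e09b426c09ac26a09a4268099c2660994264098c2620984260097c25e097425c096c25a0964258095c256) (.leaf 0x0)) (.node (.leaf 0x0) (.leaf 0x0))) (.node (.node (.leaf 0x0) (.leaf 0x0)) (.node (.leaf 0x0) (.leaf 0x0))))) (.node (.node (.node (.node (.leaf 0x654194064c1920644190063c18e063418c062c18a0624188061c1860614184060c182060418005fc17e05f417c05ec17a05e417805dc17605d417405cc17205c417005bc16e05b416c05ac16a05a4168059c1660594164058c1620584160057c15e057415c056c15a0564158055c156)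 (.leaf 0x0)) (.node (.leaf 0x0) (.leaf 0x0))) (.node (.node (.leaf 0x0) (.leaf 0x0)) (.node (.leaf 0x0) (.leaf 0x0)))) (.node (.node (.node (.leaf 0x0) (.leaf 0x0)) (.node (.leaf 0x0) (.leaf 0x0))) (.node (.node (.leaf 0x0) (.leaf 0x0)) (.node (.leaf 0x0) (.leaf 0x0))))))))

theorem lbc0 : loop (chkOW cB EO0 PO0 32 4294967295 [[0], [2], [3], [4], [5], [6], [1, 0, 1], [1, 2, 3, 4, 5, 3, 2, 1, 3, 2, 3, 2, 1, 4, 3, 2, 3, 4, 5, 3, 2, 1]] 106) 0 720 = true := by decide +kernel

theorem lbf0 : ∀ w ∈ ([[0], [3], [4], [5], [6], [1, 0, 1]] : List (List ℕ)), app cB w 106 = 106 := by decide +kernel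

theorem lb0 : LBStep ψ (KW el [[0], [2], [3], [4], [5], [6], [1, 0, 1], [1, 2, 3, 4, 5, 3, 2, 1, 3, 2, 3, 2, 1, 4, 3, 2, 3, 4, 5, 3, 2, 1]]) (KW el [[0], [3], [4], [5], [6], [1, 0, 1]]) 720 :=
  lb_stepW (L := 7) ψ hψ (by decide) (by decide) lbc0 (by decide) lbf0

noncomputable def EO1 : Tb := (.leaf 0x400440053003c033400300022003000b3002c0582002c0163002806240024001100200061001c03210018041100140033001000c4000c01940008022300080074000401a3000400f200040101000002100000040)

noncomputable def PO1 : Tb := (.node (.node (.node (.node (.node (.node (.node (.node (.leaf 0x4c00b000000000000000000000000000000000000000000000000000000060004000000000000000000000004001c000000000f000000000000000000002000c000000000800440000000000001400c005000000240120034000) (.leaf 0x0)) (.leaf 0x0)) (.node (.leaf 0x0) (.leaf 0x0))) (.node (.node (.leaf 0x0) (.leaf 0x0)) (.node (.leaf 0x0) (.leaf 0x0)))) (.node (.node (.node (.leaf 0x0) (.leaf 0x0)) (.node (.leaf 0x0) (.leaf 0x0))) (.node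 (.node (.leaf 0x0) (.leaf 0x0)) (.node (.leaf 0x0) (.leaf 0x0))))) (.node (.node (.node (.node (.leaf 0x0) (.leaf 0x0)) (.node (.leaf 0x0) (.leaf 0x0))) (.node (.node (.leaf 0x0) (.leaf 0x0)) (.node (.leaf 0x0) (.leaf 0x0)))) (.node (.node (.node (.leaf 0x0) (.leaf 0x0)) (.node (.leaf 0x0) (.leaf 0x0))) (.node (.node (.leaf 0x0) (.leaf 0x0)) (.node (.leaf 0x0) (.leaf 0x0)))))) (.node (.node (.node (.node (.node (.node (.leaf 0x0) (.leaf 0x0)) (.leaf 0x0)) (.node (.leaf 0x0) (.leaf 0x0))) (.node (.node (.leaf 0x0) (.leaf 0x0)) (.node (.leaf 0x0) (.leaf 0x0)))) (.node (.node (.node (.leaf 0x0) (.leaf 0x0)) (.node (.leaf 0x0) (.leaf 0x0))) (.node (.node (.leaf 0x0) (.leaf 0x0)) (.node (.leaf 0x0) (.leaf 0x0))))) (.node (.node (.node (.node (.leaf 0x0) (.leaf 0x0)) (.node (.leaf 0x0) (.leaf 0x0))) (.node (.node (.leaf 0x0) (.leaf 0x0)) (.node (.leaf 0x0) (.leaf 0x0)))) (.node (.node (.node (.leaf 0x0) (.leaf 0x0)) (.node (.leaf 0x0) (.leaf 0x0))) (.node (.node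 (.leaf 0x0) (.leaf 0x0)) (.node (.leaf 0x0) (.leaf 0x0))))))) (.node (.node (.node (.node (.node (.node (.node (.leaf 0xe00000000000000000000000000000000010000000000000000000000000000000000000000000000000000000000000000000000000000000028000) (.leaf 0x0)) (.leaf 0x0)) (.node (.leaf 0x0) (.leaf 0x0))) (.node (.node (.leaf 0x0) (.leaf 0x0)) (.node (.leaf 0x0) (.leaf 0x0)))) (.node (.node (.node (.leaf 0x0) (.leaf 0x0)) (.node (.leaf 0x0) (.leaf 0x0))) (.node (.node (.leaf 0x0) (.leaf 0x0)) (.node (.leaf 0x0) (.leaf 0x0))))) (.node (.node (.node (.node (.leaf 0x0) (.leaf 0x0)) (.node (.leaf 0x0) (.leaf 0x0))) (.node (.node (.leaf 0x0) (.leaf 0x0)) (.node (.leaf 0x0) (.leaf 0x0)))) (.node (.node (.node (.leaf 0x0) (.leaf 0x0)) (.node (.leaf 0x0) (.leaf 0x0))) (.node (.node (.leaf 0x0) (.leaf 0x0)) (.node (.leaf 0x0) (.leaf 0x0)))))) (.node (.node (.node (.node (.node (.leaf 0x0) (.leaf 0x0)) (.node (.leaf 0x0) (.leaf 0x0))) (.node (.node (.leaf 0x0) (.leaf 0x0))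 (.node (.leaf 0x0) (.leaf 0x0)))) (.node (.node (.node (.leaf 0x0) (.leaf 0x0)) (.node (.leaf 0x0) (.leaf 0x0))) (.node (.node (.leaf 0x0) (.leaf 0x0)) (.node (.leaf 0x0) (.leaf 0x0))))) (.node (.node (.node (.node (.leaf 0x0) (.leaf 0x0)) (.node (.leaf 0x0) (.leaf 0x0))) (.node (.node (.leaf 0x0) (.leaf 0x0)) (.node (.leaf 0x0) (.leaf 0x0)))) (.node (.node (.node (.leaf 0x0) (.leaf 0x0)) (.node (.leaf 0x0) (.leaf 0x0))) (.node (.node (.leaf 0x0) (.leaf 0x0)) (.node (.leaf 0x0) (.leaf 0x0))))))))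

theorem lbc1 : loop (chkOW cB EO1 PO1 32 4294967295 [[0], [3], [4], [5], [6], [1, 0, 1]] 64) 0 21 = true := by decide +kernel

theorem lbf1 : ∀ w ∈ ([[0], [5], [6], [1, 0, 1]] : List (List ℕ)), app cB w 64 = 64 := by decide +kernel

theorem lb1 : LBStep ψ (KW el [[0], [3], [4], [5], [6], [1, 0, 1]]) (KW el [[0], [5], [6], [1, 0, 1]]) 21 :=
  lb_stepW (L := 7) ψ hψ (by decide) (by decide) lbc1 (by decide) lbf1

noncomputable def EO2 : Tb := (.leaf 0x10008032200040581000003300000016)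

noncomputable def PO2 : Tb := (.node (.node (.node (.node (.node (.node (.node (.node (.leaf 0x40030000000000000000000000000000000000000000000000000000000000000000000000000000000000000000000000000000000000000000000000000000000000000000000000000000000000000000000000000000000) (.leaf 0x0)) (.leaf 0x0)) (.node (.leaf 0x0) (.leaf 0x0))) (.node (.node (.leaf 0x0) (.leaf 0x0)) (.node (.leaf 0x0) (.leaf 0x0)))) (.node (.node (.node (.leaf 0x0) (.leaf 0x0)) (.node (.leaf 0x0) (.leaf 0x0))) (.node (.node (.leaf 0x0) (.leaf 0x0)) (.node (.leaf 0x0) (.leaf 0x0))))) (.node (.node (.node (.node (.leaf 0x0) (.leaf 0x0)) (.node (.leaf 0x0) (.leaf 0x0))) (.node (.node (.leaf 0x0) (.leaf 0x0)) (.node (.leaf 0x0) (.leaf 0x0)))) (.node (.node (.node (.leaf 0x0) (.leaf 0x0)) (.node (.leaf 0x0) (.leaf 0x0))) (.node (.node (.leaf 0x0) (.leaf 0x0)) (.node (.leaf 0x0) (.leaf 0x0)))))) (.node (.node (.node (.node (.node (.node (.leaf 0x0) (.leaf 0x0)) (.leaf 0x0)) (.node (.leaf 0x0)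 (.leaf 0x0))) (.node (.node (.leaf 0x0) (.leaf 0x0)) (.node (.leaf 0x0) (.leaf 0x0)))) (.node (.node (.node (.leaf 0x0) (.leaf 0x0)) (.node (.leaf 0x0) (.leaf 0x0))) (.node (.node (.leaf 0x0) (.leaf 0x0)) (.node (.leaf 0x0) (.leaf 0x0))))) (.node (.node (.node (.node (.leaf 0x0) (.leaf 0x0)) (.node (.leaf 0x0) (.leaf 0x0))) (.node (.node (.leaf 0x0) (.leaf 0x0)) (.node (.leaf 0x0) (.leaf 0x0)))) (.node (.node (.node (.leaf 0x0) (.leaf 0x0)) (.node (.leaf 0x0) (.leaf 0x0))) (.node (.node (.leaf 0x0) (.leaf 0x0)) (.node (.leaf 0x0) (.leaf 0x0))))))) (.node (.node (.node (.node (.node (.node (.node (.leaf 0x2000000000000000000000000000000000000000000000000000000000000000000000000000000000000) (.leaf 0x0)) (.leaf 0x0)) (.node (.leaf 0x0) (.leaf 0x0))) (.node (.node (.leaf 0x0) (.leaf 0x0)) (.node (.leaf 0x0) (.leaf 0x0)))) (.node (.node (.node (.leaf 0x0) (.leaf 0x0)) (.node (.leaf 0x0) (.leaf 0x0))) (.node (.node (.leaf 0x0) (.leaf 0x0)) (.node (.leaf 0x0) (.leaf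 0x0))))) (.node (.node (.node (.node (.leaf 0x0) (.leaf 0x0)) (.node (.leaf 0x0) (.leaf 0x0))) (.node (.node (.leaf 0x0) (.leaf 0x0)) (.node (.leaf 0x0) (.leaf 0x0)))) (.node (.node (.node (.leaf 0x0) (.leaf 0x0)) (.node (.leaf 0x0) (.leaf 0x0))) (.node (.node (.leaf 0x0) (.leaf 0x0)) (.node (.leaf 0x0) (.leaf 0x0)))))) (.node (.node (.node (.node (.node (.leaf 0x0) (.leaf 0x0)) (.node (.leaf 0x0) (.leaf 0x0))) (.node (.node (.leaf 0x0) (.leaf 0x0)) (.node (.leaf 0x0) (.leaf 0x0)))) (.node (.node (.node (.leaf 0x0) (.leaf 0x0)) (.node (.leaf 0x0) (.leaf 0x0))) (.node (.node (.leaf 0x0) (.leaf 0x0)) (.node (.leaf 0x0) (.leaf 0x0))))) (.node (.node (.node (.node (.leaf 0x0) (.leaf 0x0)) (.node (.leaf 0x0) (.leaf 0x0))) (.node (.node (.leaf 0x0) (.leaf 0x0)) (.node (.leaf 0x0) (.leaf 0x0)))) (.node (.node (.node (.leaf 0x0) (.leaf 0x0)) (.node (.leaf 0x0) (.leaf 0x0))) (.node (.node (.leaf 0x0) (.leaf 0x0)) (.node (.leaf 0x0) (.leaf 0x0))))))))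

theorem lbc2 : loop (chkOW cB EO2 PO2 32 4294967295 [[0], [5], [6], [1, 0, 1]] 22) 0 4 = true := by decide +kernel

theorem lbf2 : ∀ w ∈ ([[0], [6], [1, 0, 1]] : List (List ℕ)), app cB w 22 = 22 := by decide +kernel

theorem lb2 : LBStep ψ (KW el [[0], [5], [6], [1, 0, 1]]) (KW el [[0], [6], [1, 0, 1]]) 4 :=
  lb_stepW (L := 7) ψ hψ (by decide) (by decide) lbc2 (by decide) lbf2

noncomputable def EO3 : Tb := (.leaf 0x33b0000033a)

noncomputable def PO3 : Tb := (.node (.node (.node (.node (.node (.node (.node (.node (.leaf 0x0) (.leaf 0x0)) (.leaf 0x0)) (.node (.leaf 0x0) (.leaf 0x0))) (.node (.node (.leaf 0x0) (.leaf 0x0)) (.node (.leaf 0x0) (.leaf 0x0)))) (.node (.node (.node (.leaf 0x0) (.leaf 0x0)) (.node (.leaf 0x0) (.leaf 0x0))) (.node (.node (.leaf 0x0) (.leaf 0x0)) (.node (.leaf 0x0) (.leaf 0x0))))) (.node (.node (.node (.node (.leaf 0x0) (.leaf 0x0)) (.node (.leaf 0x0) (.leaf 0x0))) (.node (.node (.leaf 0x0) (.leaf 0x0)) (.node (.leaf 0x0) (.leaf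 0x0)))) (.node (.node (.node (.leaf 0x400000000000000000000000000000000000000000000000000000000000000000000000000000000000000000000000000000000000000000000000000000000000000000000000000000000000000000000000000000000000000000000000000000000000000) (.leaf 0x0)) (.node (.leaf 0x0) (.leaf 0x0))) (.node (.node (.leaf 0x0) (.leaf 0x0)) (.node (.leaf 0x0) (.leaf 0x0)))))) (.node (.node (.node (.node (.node (.node (.leaf 0x0) (.leaf 0x0)) (.leaf 0x0)) (.node (.leaf 0x0) (.leaf 0x0))) (.node (.node (.leaf 0x0) (.leaf 0x0)) (.node (.leaf 0x0) (.leaf 0x0)))) (.node (.node (.node (.leaf 0x0) (.leaf 0x0)) (.node (.leaf 0x0) (.leaf 0x0))) (.node (.node (.leaf 0x0) (.leaf 0x0)) (.node (.leaf 0x0) (.leaf 0x0))))) (.node (.node (.node (.node (.leaf 0x0) (.leaf 0x0)) (.node (.leaf 0x0) (.leaf 0x0))) (.node (.node (.leaf 0x0) (.leaf 0x0)) (.node (.leaf 0x0) (.leaf 0x0)))) (.node (.node (.node (.leaf 0x0) (.leaf 0x0)) (.node (.leaf 0x0) (.leaf 0x0))) (.node (.node (.leaf 0x0)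 (.leaf 0x0)) (.node (.leaf 0x0) (.leaf 0x0))))))) (.node (.node (.node (.node (.node (.node (.node (.leaf 0x0) (.leaf 0x0)) (.leaf 0x0)) (.node (.leaf 0x0) (.leaf 0x0))) (.node (.node (.leaf 0x0) (.leaf 0x0)) (.node (.leaf 0x0) (.leaf 0x0)))) (.node (.node (.node (.leaf 0x0) (.leaf 0x0)) (.node (.leaf 0x0) (.leaf 0x0))) (.node (.node (.leaf 0x0) (.leaf 0x0)) (.node (.leaf 0x0) (.leaf 0x0))))) (.node (.node (.node (.node (.leaf 0x0) (.leaf 0x0)) (.node (.leaf 0x0) (.leaf 0x0))) (.node (.node (.leaf 0x0) (.leaf 0x0)) (.node (.leaf 0x0) (.leaf 0x0)))) (.node (.node (.node (.leaf 0x0) (.leaf 0x0)) (.node (.leaf 0x0) (.leaf 0x0))) (.node (.node (.leaf 0x0) (.leaf 0x0)) (.node (.leaf 0x0) (.leaf 0x0)))))) (.node (.node (.node (.node (.node (.leaf 0x0) (.leaf 0x0)) (.node (.leaf 0x0) (.leaf 0x0))) (.node (.node (.leaf 0x0) (.leaf 0x0)) (.node (.leaf 0x0) (.leaf 0x0)))) (.node (.node (.node (.leaf 0x0) (.leaf 0x0)) (.node (.leaf 0x0) (.leaf 0x0))) (.node (.node (.leaf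 0x0) (.leaf 0x0)) (.node (.leaf 0x0) (.leaf 0x0))))) (.node (.node (.node (.node (.leaf 0x0) (.leaf 0x0)) (.node (.leaf 0x0) (.leaf 0x0))) (.node (.node (.leaf 0x0) (.leaf 0x0)) (.node (.leaf 0x0) (.leaf 0x0)))) (.node (.node (.node (.leaf 0x0) (.leaf 0x0)) (.node (.leaf 0x0) (.leaf 0x0))) (.node (.node (.leaf 0x0) (.leaf 0x0)) (.node (.leaf 0x0) (.leaf 0x0))))))))

theorem lbc3 : loop (chkOW cB EO3 PO3 32 4294967295 [[0], [6], [1, 0, 1]] 826) 0 2 = true := by decide +kernel

theorem lbf3 : ∀ w ∈ ([[6], [1, 0, 1]] : List (List ℕ)), app cB w 826 = 826 := by decide +kernel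

theorem lb3 : LBStep ψ (KW el [[0], [6], [1, 0, 1]]) (KW el [[6], [1, 0, 1]]) 2 :=
  lb_stepW (L := 7) ψ hψ (by decide) (by decide) lbc3 (by decide) lbf3

noncomputable def EO4 : Tb := (.leaf 0x300000001)

noncomputable def PO4 : Tb := (.node (.node (.node (.node (.node (.node (.node (.node (.leaf 0x40000000000) (.leaf 0x0)) (.leaf 0x0)) (.node (.leaf 0x0) (.leaf 0x0))) (.node (.node (.leaf 0x0) (.leaf 0x0)) (.node (.leaf 0x0) (.leaf 0x0)))) (.node (.node (.node (.leaf 0x0) (.leaf 0x0)) (.node (.leaf 0x0) (.leaf 0x0))) (.node (.node (.leaf 0x0) (.leaf 0x0)) (.node (.leaf 0x0) (.leaf 0x0))))) (.node (.node (.node (.node (.leaf 0x0) (.leaf 0x0)) (.node (.leaf 0x0) (.leaf 0x0))) (.node (.node (.leaf 0x0) (.leaf 0x0)) (.node (.leaf 0x0) (.leaf 0x0)))) (.node (.node (.node (.leaf 0x0) (.leaf 0x0)) (.node (.leaf 0x0) (.leaf 0x0))) (.node (.node (.leaf 0x0) (.leaf 0x0)) (.node (.leaf 0x0) (.leaf 0x0)))))) (.node (.node (.node (.node (.node (.node (.leaf 0x0) (.leaf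 0x0)) (.leaf 0x0)) (.node (.leaf 0x0) (.leaf 0x0))) (.node (.node (.leaf 0x0) (.leaf 0x0)) (.node (.leaf 0x0) (.leaf 0x0)))) (.node (.node (.node (.leaf 0x0) (.leaf 0x0)) (.node (.leaf 0x0) (.leaf 0x0))) (.node (.node (.leaf 0x0) (.leaf 0x0)) (.node (.leaf 0x0) (.leaf 0x0))))) (.node (.node (.node (.node (.leaf 0x0) (.leaf 0x0)) (.node (.leaf 0x0) (.leaf 0x0))) (.node (.node (.leaf 0x0) (.leaf 0x0)) (.node (.leaf 0x0) (.leaf 0x0)))) (.node (.node (.node (.leaf 0x0) (.leaf 0x0)) (.node (.leaf 0x0) (.leaf 0x0))) (.node (.node (.leaf 0x0) (.leaf 0x0)) (.node (.leaf 0x0) (.leaf 0x0))))))) (.node (.node (.node (.node (.node (.node (.node (.leaf 0x0) (.leaf 0x0)) (.leaf 0x0)) (.node (.leaf 0x0) (.leaf 0x0))) (.node (.node (.leaf 0x0) (.leaf 0x0)) (.node (.leaf 0x0) (.leaf 0x0)))) (.node (.node (.node (.leaf 0x0) (.leaf 0x0)) (.node (.leaf 0x0) (.leaf 0x0))) (.node (.node (.leaf 0x0) (.leaf 0x0)) (.node (.leaf 0x0) (.leaf 0x0))))) (.node (.node (.node (.node (.leaf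 0x0) (.leaf 0x0)) (.node (.leaf 0x0) (.leaf 0x0))) (.node (.node (.leaf 0x0) (.leaf 0x0)) (.node (.leaf 0x0) (.leaf 0x0)))) (.node (.node (.node (.leaf 0x0) (.leaf 0x0)) (.node (.leaf 0x0) (.leaf 0x0))) (.node (.node (.leaf 0x0) (.leaf 0x0)) (.node (.leaf 0x0) (.leaf 0x0)))))) (.node (.node (.node (.node (.node (.leaf 0x0) (.leaf 0x0)) (.node (.leaf 0x0) (.leaf 0x0))) (.node (.node (.leaf 0x0) (.leaf 0x0)) (.node (.leaf 0x0) (.leaf 0x0)))) (.node (.node (.node (.leaf 0x0) (.leaf 0x0)) (.node (.leaf 0x0) (.leaf 0x0))) (.node (.node (.leaf 0x0) (.leaf 0x0)) (.node (.leaf 0x0) (.leaf 0x0))))) (.node (.node (.node (.node (.leaf 0x0) (.leaf 0x0)) (.node (.leaf 0x0) (.leaf 0x0))) (.node (.node (.leaf 0x0) (.leaf 0x0)) (.node (.leaf 0x0) (.leaf 0x0)))) (.node (.node (.node (.leaf 0x0) (.leaf 0x0)) (.node (.leaf 0x0) (.leaf 0x0))) (.node (.node (.leaf 0x0) (.leaf 0x0)) (.node (.leaf 0x0) (.leaf 0x0))))))))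

theorem lbc4 : loop (chkOW cB EO4 PO4 32 4294967295 [[6], [1, 0, 1]] 1) 0 2 = true := by decide +kernel

theorem lbf4 : ∀ w ∈ ([[1, 0, 1]] : List (List ℕ)), app cB w 1 = 1 := by decide +kernel

theorem lb4 : LBStep ψ (KW el [[6], [1, 0, 1]]) (KW el [[1, 0, 1]]) 2 :=
  lb_stepW (L := 7) ψ hψ (by decide) (by decide) lbc4 (by decide) lbf4

noncomputable def EO5 : Tb := (.leaf 0x900000004)

noncomputable def PO5 : Tb := (.node (.node (.node (.node (.node (.node (.node (.node (.leaf 0x40000000000000000000000000000000) (.leaf 0x0)) (.leaf 0x0)) (.node (.leaf 0x0) (.leaf 0x0))) (.node (.node (.leaf 0x0) (.leaf 0x0)) (.node (.leaf 0x0) (.leaf 0x0)))) (.node (.node (.node (.leaf 0x0) (.leaf 0x0)) (.node (.leaf 0x0) (.leaf 0x0))) (.node (.node (.leaf 0x0) (.leaf 0x0)) (.node (.leaf 0x0) (.leaf 0x0))))) (.node (.node (.node (.node (.leaf 0x0) (.leaf 0x0)) (.node (.leaf 0x0) (.leaf 0x0))) (.node (.node (.leaf 0x0) (.leaf 0x0)) (.node (.leaf 0x0) (.leaf 0x0)))) (.node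 (.node (.node (.leaf 0x0) (.leaf 0x0)) (.node (.leaf 0x0) (.leaf 0x0))) (.node (.node (.leaf 0x0) (.leaf 0x0)) (.node (.leaf 0x0) (.leaf 0x0)))))) (.node (.node (.node (.node (.node (.node (.leaf 0x0) (.leaf 0x0)) (.leaf 0x0)) (.node (.leaf 0x0) (.leaf 0x0))) (.node (.node (.leaf 0x0) (.leaf 0x0)) (.node (.leaf 0x0) (.leaf 0x0)))) (.node (.node (.node (.leaf 0x0) (.leaf 0x0)) (.node (.leaf 0x0) (.leaf 0x0))) (.node (.node (.leaf 0x0) (.leaf 0x0)) (.node (.leaf 0x0) (.leaf 0x0))))) (.node (.node (.node (.node (.leaf 0x0) (.leaf 0x0)) (.node (.leaf 0x0) (.leaf 0x0))) (.node (.node (.leaf 0x0) (.leaf 0x0)) (.node (.leaf 0x0) (.leaf 0x0)))) (.node (.node (.node (.leaf 0x0) (.leaf 0x0)) (.node (.leaf 0x0) (.leaf 0x0))) (.node (.node (.leaf 0x0) (.leaf 0x0)) (.node (.leaf 0x0) (.leaf 0x0))))))) (.node (.node (.node (.node (.node (.node (.node (.leaf 0x0) (.leaf 0x0)) (.leaf 0x0)) (.node (.leaf 0x0) (.leaf 0x0))) (.node (.node (.leaf 0x0) (.leaf 0x0)) (.node (.leaf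 0x0) (.leaf 0x0)))) (.node (.node (.node (.leaf 0x0) (.leaf 0x0)) (.node (.leaf 0x0) (.leaf 0x0))) (.node (.node (.leaf 0x0) (.leaf 0x0)) (.node (.leaf 0x0) (.leaf 0x0))))) (.node (.node (.node (.node (.leaf 0x0) (.leaf 0x0)) (.node (.leaf 0x0) (.leaf 0x0))) (.node (.node (.leaf 0x0) (.leaf 0x0)) (.node (.leaf 0x0) (.leaf 0x0)))) (.node (.node (.node (.leaf 0x0) (.leaf 0x0)) (.node (.leaf 0x0) (.leaf 0x0))) (.node (.node (.leaf 0x0) (.leaf 0x0)) (.node (.leaf 0x0) (.leaf 0x0)))))) (.node (.node (.node (.node (.node (.leaf 0x0) (.leaf 0x0)) (.node (.leaf 0x0) (.leaf 0x0))) (.node (.node (.leaf 0x0) (.leaf 0x0)) (.node (.leaf 0x0) (.leaf 0x0)))) (.node (.node (.node (.leaf 0x0) (.leaf 0x0)) (.node (.leaf 0x0) (.leaf 0x0))) (.node (.node (.leaf 0x0) (.leaf 0x0)) (.node (.leaf 0x0) (.leaf 0x0))))) (.node (.node (.node (.node (.leaf 0x0) (.leaf 0x0)) (.node (.leaf 0x0) (.leaf 0x0))) (.node (.node (.leaf 0x0) (.leaf 0x0)) (.node (.leaf 0x0) (.leaf 0x0)))) (.node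 (.node (.node (.leaf 0x0) (.leaf 0x0)) (.node (.leaf 0x0) (.leaf 0x0))) (.node (.node (.leaf 0x0) (.leaf 0x0)) (.node (.leaf 0x0) (.leaf 0x0))))))))

theorem lbc5 : loop (chkOW cB EO5 PO5 32 4294967295 [[1, 0, 1]] 4) 0 2 = true := by decide +kernel

theorem lbf5 : ∀ w ∈ ([] : List (List ℕ)), app cB w 4 = 4 := by decide +kernel

theorem lb5 : LBStep ψ (KW el [[1, 0, 1]]) (KW el []) 2 :=
  lb_stepW (L := 7) ψ hψ (by decide) (by decide) lbc5 (by decide) lbf5

end Cfsg.Agent.Lib.Helper19.OrdHe.LW
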