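import Cfsg.Agent.Lib.Helper19.OrdHe.PD
import Cfsg.Agent.Lib.Helper19.TC2R

/-! Generated file: certificates for the order of a presented group. -/

set_option autoImplicit false
set_option maxRecDepth 1000000

namespace Cfsg.Agent.Lib.Helper19.OrdHe.P0

open Cfsg.Agent.Lib.Helper19.TCS (evn evn_rot evn_rev evn_pair AllS forall_of_allS lift_rels mk_eq_lift cox_swap shapeI prod_rep index_of_equiv orbit_ncard orbit_image ncard_interval fix_of_closure RC)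
open Cfsg.Agent.Lib.Helper19.TC2
open Cfsg.Spor Cfsg.Agent.Lib.Helper19.PresHe
open Cfsg.Agent.Lib.Helper19.OrdHe.PD

noncomputable section

def T0 : Tb := (.leaf 0x4664c55245a362200044c00050a589608800821)
def J0 : Tb := (.leaf 0xc016028048080000040000100200400800)
def L0 : Letter := (0, T0, J0)
def T1 : Tb := (.leaf 0x3a300000000000000064100000000000038e7c06687e2)
def J1 : Tb := (.leaf 0x3400000000000000020000000000000400800000)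
def L1 : Letter := (1, T1, J1)
def T2 : Tb := (.leaf 0x2443c20000000000005c130100000000022f7803ee5e97a3)
def J2 : Tb := (.leaf 0x2200c00000000000018220000000000300600000000)
def L2 : Letter := (2, T2, J2)
def T3 : Tb := (.leaf 0x871262620000000000005410000000b115000074000028f56a764)
def J3 : Tb := (.leaf 0x200400800000000000010000000000000000400000000000)
def L3 : Letter := (3, T3, J3)
def T4 : Tb := (.leaf 0x2e20000007001a20000004eb725)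
def J4 : Tb := (.leaf 0xf0000000282100000000000)
def L4 : Letter := (4, T4, J4)
def T5 : Tb := (.leaf 0x4810000000000000006c00000000000004ac6e6)
def J5 : Tb := (.leaf 0x6000000000000000180000000000000000)
def L5 : Letter := (5, T5, J5)
def T6 : Tb := (.leaf 0x40100000000000000068000000000000000042d6a7)
def J6 : Tb := (.leaf 0x38000000000000000e0000000000000000000)
def L6 : Letter := (6, T6, J6)
def tC : Tb := (.leaf 0x6d10c1c13200000c02c02023481e40410e12a1181362160020000)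
def tJC : Tb := (.leaf 0xa8131761240007801e044240b802c0506401201a1600b800)
def tPP : Tb := (.leaf 0x338660c4108608a1102184208211802804006008008000400)
def W0 : List Letter := [L0, L0]
def W1 : List Letter := [L1, L1]
def W2 : List Letter := [L2, L2]
def W3 : List Letter := [L3, L3]
def W4 : List Letter := [L4, L4]
def W5 : List Letter := [L5, L5]
def W6 : List Letter := [L6, L6]
def W7 : List Letter := [L0, L1, L0, L1]
def W8 : List Letter := [L0, L2, L0, L2]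
def W9 : List Letter := [L0, L3, L0, L3]
def W10 : List Letter := [L0, L4, L0, L4]
def W11 : List Letter := [L0, L5, L0, L5]
def W12 : List Letter := [L1, L2, L1, L2]
def W13 : List Letter := [L1, L2, L1, L2, L1, L2]
def W14 : List Letter := [L4, L2, L1, L0, L2, L1, L0, L2, L1, L0]
def W15 : List Letter := [L0, L4, L2, L1, L0, L2, L1, L0, L2, L1]
def W16 : List Letter := [L2, L3, L2, L3]
def W17 : List Letter := [L0, L2, L3, L2, L3, L2, L3, L2, L3, L2, L3]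
def W18 : List Letter := [L4, L3, L4, L3, L4, L3]
def W19 : List Letter := [L3, L5, L3, L5]
def W20 : List Letter := [L3, L5, L3, L5, L3, L5]
def W21 : List Letter := [L3, L6, L3, L6]
def W22 : List Letter := [L3, L6, L3, L6, L3, L6]
def W23 : List Letter := [L5, L6, L5, L6, L4]
def wtree : Tr := (.node (.node (.node (.node (.node (.leaf W0) (.leaf W16)) (.leaf W8)) (.node (.node (.leaf W4) (.leaf W20)) (.leaf W12))) (.node (.node (.node (.leaf W2) (.leaf W18)) (.leaf W10)) (.node (.node (.leaf W6) (.leaf W22)) (.leaf W14)))) (.node (.node (.node (.node (.leaf W1) (.leaf W17)) (.leaf W9)) (.node (.node (.leaf W5) (.leaf W21)) (.leaf W13))) (.node (.node (.node (.leaf W3) (.leaf W19)) (.leaf W11)) (.node (.node (.leaf W7) (.leaf W23)) (.leaf W15)))))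
def wsubs : List (List Letter × List Letter) := []
def cert : Par := { w := 5, mw := 31, w5 := 10, fw := 12, mf := 4095, jw := 11, mj := 2047, k := 6, km := 63, C := tC, JC := tJC, PP := tPP, D := 3, M := 18, R := 24, S := 25, tree := wtree, subs := wsubs, LS := [L0, L1, L2, L3, L4, L5, L6] }

end

theorem al0 : al cert 0 = true := by decide +kernel

theorem one : loop (fun a => cond (al cert a) (Nat.beq a 0) true) 0 18 = true := by decide +kernel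

theorem row_ok0 : loop (row cert) 0 18 = true := by decide +kernel

theorem hsel : ∀ k < cert.LS.length, (sel cert.LS k).1 = k := by decide

theorem lf0 : (∀ p ∈ W0, p ∈ cert.LS) ∧ ev (fun k => elq (jm [0, 1, 2, 3, 4, 5, 6] k)) W0 = 1 :=
  leaf_okJ cert elq [0, 1, 2, 3, 4, 5, 6] hsel [0, 0] [0, 0] W0 rfl (by decide) rfl (evn_pair elq elq_sq 0)

theorem lf1 : (∀ p ∈ W1, p ∈ cert.LS) ∧ ev (fun k => elq (jm [0, 1, 2, 3, 4, 5, 6] k)) W1 = 1 :=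
  leaf_okJ cert elq [0, 1, 2, 3, 4, 5, 6] hsel [1, 1] [1, 1] W1 rfl (by decide) rfl (evn_pair elq elq_sq 1)

theorem lf2 : (∀ p ∈ W2, p ∈ cert.LS) ∧ ev (fun k => elq (jm [0, 1, 2, 3, 4, 5, 6] k)) W2 = 1 :=
  leaf_okJ cert elq [0, 1, 2, 3, 4, 5, 6] hsel [2, 2] [2, 2] W2 rfl (by decide) rfl (evn_pair elq elq_sq 2)

theorem lf3 : (∀ p ∈ W3, p ∈ cert.LS) ∧ ev (fun k => elq (jm [0, 1, 2, 3, 4, 5, 6] k)) W3 = 1 :=
  leaf_okJ cert elq [0, 1, 2, 3, 4, 5, 6] hsel [3, 3] [3, 3] W3 rfl (by decide) rfl (evn_pair elq elq_sq 3)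

theorem lf4 : (∀ p ∈ W4, p ∈ cert.LS) ∧ ev (fun k => elq (jm [0, 1, 2, 3, 4, 5, 6] k)) W4 = 1 :=
  leaf_okJ cert elq [0, 1, 2, 3, 4, 5, 6] hsel [4, 4] [4, 4] W4 rfl (by decide) rfl (evn_pair elq elq_sq 4)

theorem lf5 : (∀ p ∈ W5, p ∈ cert.LS) ∧ ev (fun k => elq (jm [0, 1, 2, 3, 4, 5, 6] k)) W5 = 1 :=
  leaf_okJ cert elq [0, 1, 2, 3, 4, 5, 6] hsel [5, 5] [5, 5] W5 rfl (by decide) rfl (evn_pair elq elq_sq 5)

theorem lf6 : (∀ p ∈ W6, p ∈ cert.LS) ∧ ev (fun k => elq (jm [0, 1, 2, 3, 4, 5, 6] k)) W6 = 1 :=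
  leaf_okJ cert elq [0, 1, 2, 3, 4, 5, 6] hsel [6, 6] [6, 6] W6 rfl (by decide) rfl (evn_pair elq elq_sq 6)

theorem lf7 : (∀ p ∈ W7, p ∈ cert.LS) ∧ ev (fun k => elq (jm [0, 1, 2, 3, 4, 5, 6] k)) W7 = 1 :=
  leaf_okJ cert elq [0, 1, 2, 3, 4, 5, 6] hsel [0, 1, 0, 1] [0, 1, 0, 1] W7 rfl (by decide) rfl (cq_one 0 1)

theorem lf8 : (∀ p ∈ W8, p ∈ cert.LS) ∧ ev (fun k => elq (jm [0, 1, 2, 3, 4, 5, 6] k)) W8 = 1 :=
  leaf_okJ cert elq [0, 1, 2, 3, 4, 5, 6] hsel [0, 2, 0, 2] [0, 2, 0, 2] W8 rfl (by decide) rfl (q_one (cox_one 0 2))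

theorem lf9 : (∀ p ∈ W9, p ∈ cert.LS) ∧ ev (fun k => elq (jm [0, 1, 2, 3, 4, 5, 6] k)) W9 = 1 :=
  leaf_okJ cert elq [0, 1, 2, 3, 4, 5, 6] hsel [0, 3, 0, 3] [0, 3, 0, 3] W9 rfl (by decide) rfl (q_one (cox_one 0 3))

theorem lf10 : (∀ p ∈ W10, p ∈ cert.LS) ∧ ev (fun k => elq (jm [0, 1, 2, 3, 4, 5, 6] k)) W10 = 1 :=
  leaf_okJ cert elq [0, 1, 2, 3, 4, 5, 6] hsel [0, 4, 0, 4] [0, 4, 0, 4] W10 rfl (by decide) rfl (q_one (cox_one 0 4))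

theorem lf11 : (∀ p ∈ W11, p ∈ cert.LS) ∧ ev (fun k => elq (jm [0, 1, 2, 3, 4, 5, 6] k)) W11 = 1 :=
  leaf_okJ cert elq [0, 1, 2, 3, 4, 5, 6] hsel [0, 5, 0, 5] [0, 5, 0, 5] W11 rfl (by decide) rfl (q_one (cox_one 0 5))

theorem lf12 : (∀ p ∈ W12, p ∈ cert.LS) ∧ ev (fun k => elq (jm [0, 1, 2, 3, 4, 5, 6] k)) W12 = 1 :=
  leaf_okJ cert elq [0, 1, 2, 3, 4, 5, 6] hsel [1, 2, 1, 2] [1, 2, 1, 2] W12 rfl (by decide) rfl (cq_one 1 2)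

theorem lf13 : (∀ p ∈ W13, p ∈ cert.LS) ∧ ev (fun k => elq (jm [0, 1, 2, 3, 4, 5, 6] k)) W13 = 1 :=
  leaf_okJ cert elq [0, 1, 2, 3, 4, 5, 6] hsel [1, 2, 1, 2, 1, 2] [1, 2, 1, 2, 1, 2] W13 rfl (by decide) rfl (q_one (cox_one 1 2))

theorem lf14 : (∀ p ∈ W14, p ∈ cert.LS) ∧ ev (fun k => elq (jm [0, 1, 2, 3, 4, 5, 6] k)) W14 = 1 :=
  leaf_okJ cert elq [0, 1, 2, 3, 4, 5, 6] hsel [4, 2, 1, 0, 2, 1, 0, 2, 1, 0] [4, 2, 1, 0, 2, 1, 0, 2, 1, 0] W14 rfl (by decide) rfl (evn_rot elq [] [4, 2, 1, 0, 2, 1, 0, 2, 1, 0] (q_one xg1_one))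

theorem lf15 : (∀ p ∈ W15, p ∈ cert.LS) ∧ ev (fun k => elq (jm [0, 1, 2, 3, 4, 5, 6] k)) W15 = 1 :=
  leaf_okJ cert elq [0, 1, 2, 3, 4, 5, 6] hsel [0, 4, 2, 1, 0, 2, 1, 0, 2, 1] [0, 4, 2, 1, 0, 2, 1, 0, 2, 1] W15 rfl (by decide) rfl (evn_rot elq [4, 2, 1, 0, 2, 1, 0, 2, 1] [0] (q_one xg1_one))

theorem lf16 : (∀ p ∈ W16, p ∈ cert.LS) ∧ ev (fun k => elq (jm [0, 1, 2, 3, 4, 5, 6] k)) W16 = 1 :=
  leaf_okJ cert elq [0, 1, 2, 3, 4, 5, 6] hsel [2, 3, 2, 3] [2, 3, 2, 3] W16 rfl (by decide) rfl (cq_one 2 3)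

theorem lf17 : (∀ p ∈ W17, p ∈ cert.LS) ∧ ev (fun k => elq (jm [0, 1, 2, 3, 4, 5, 6] k)) W17 = 1 :=
  leaf_okJ cert elq [0, 1, 2, 3, 4, 5, 6] hsel [0, 2, 3, 2, 3, 2, 3, 2, 3, 2, 3] [0, 2, 3, 2, 3, 2, 3, 2, 3, 2, 3] W17 rfl (by decide) rfl (evn_rot elq [2, 3, 2, 3, 2, 3, 2, 3, 2, 3] [0] (evn_rev elq elq_sq _ (q_one xg2_one)))

theorem lf18 : (∀ p ∈ W18, p ∈ cert.LS) ∧ ev (fun k => elq (jm [0, 1, 2, 3, 4, 5, 6] k)) W18 = 1 :=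
  leaf_okJ cert elq [0, 1, 2, 3, 4, 5, 6] hsel [4, 3, 4, 3, 4, 3] [4, 3, 4, 3, 4, 3] W18 rfl (by decide) rfl (q_one (cox_one 4 3))

theorem lf19 : (∀ p ∈ W19, p ∈ cert.LS) ∧ ev (fun k => elq (jm [0, 1, 2, 3, 4, 5, 6] k)) W19 = 1 :=
  leaf_okJ cert elq [0, 1, 2, 3, 4, 5, 6] hsel [3, 5, 3, 5] [3, 5, 3, 5] W19 rfl (by decide) rfl (cq_one 3 5)

theorem lf20 : (∀ p ∈ W20, p ∈ cert.LS) ∧ ev (fun k => elq (jm [0, 1, 2, 3, 4, 5, 6] k)) W20 = 1 :=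
  leaf_okJ cert elq [0, 1, 2, 3, 4, 5, 6] hsel [3, 5, 3, 5, 3, 5] [3, 5, 3, 5, 3, 5] W20 rfl (by decide) rfl (q_one (cox_one 3 5))

theorem lf21 : (∀ p ∈ W21, p ∈ cert.LS) ∧ ev (fun k => elq (jm [0, 1, 2, 3, 4, 5, 6] k)) W21 = 1 :=
  leaf_okJ cert elq [0, 1, 2, 3, 4, 5, 6] hsel [3, 6, 3, 6] [3, 6, 3, 6] W21 rfl (by decide) rfl (cq_one 3 6)

theorem lf22 : (∀ p ∈ W22, p ∈ cert.LS) ∧ ev (fun k => elq (jm [0, 1, 2, 3, 4, 5, 6] k)) W22 = 1 :=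
  leaf_okJ cert elq [0, 1, 2, 3, 4, 5, 6] hsel [3, 6, 3, 6, 3, 6] [3, 6, 3, 6, 3, 6] W22 rfl (by decide) rfl (q_one (cox_one 3 6))

theorem lf23 : (∀ p ∈ W23, p ∈ cert.LS) ∧ ev (fun k => elq (jm [0, 1, 2, 3, 4, 5, 6] k)) W23 = 1 :=
  leaf_okJ cert elq [0, 1, 2, 3, 4, 5, 6] hsel [5, 6, 5, 6, 4] [5, 6, 5, 6, 4] W23 rfl (by decide) rfl (evn_rot elq [] [5, 6, 5, 6, 4] (evn_rev elq elq_sq _ (q_one xg0_one)))

theorem tree_ok : cert.tree.All (fun W => (∀ p ∈ W, p ∈ cert.LS) ∧ ev (fun k => elq (jm [0, 1, 2, 3, 4, 5, 6] k)) W = 1) :=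
  ⟨⟨⟨⟨⟨lf0, lf16⟩, lf8⟩, ⟨⟨lf4, lf20⟩, lf12⟩⟩, ⟨⟨⟨lf2, lf18⟩, lf10⟩, ⟨⟨lf6, lf22⟩, lf14⟩⟩⟩, ⟨⟨⟨⟨lf1, lf17⟩, lf9⟩, ⟨⟨lf5, lf21⟩, lf13⟩⟩, ⟨⟨⟨lf3, lf19⟩, lf11⟩, ⟨⟨lf7, lf23⟩, lf15⟩⟩⟩⟩

theorem subs_ok : AllS (fun XZ : List Letter × List Letter => (∀ p ∈ XZ.1, p ∈ cert.LS) ∧ (∀ p ∈ XZ.2, p ∈ cert.LS) ∧
    ev (fun k => elq (jm [0, 1, 2, 3, 4, 5, 6] k)) XZ.1 * ev (fun k => elq (jm [0, 1, 2, 3, 4, 5, 6] k)) XZ.2 ∈ KK elq []) cert.subs :=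
  trivial

theorem hyp : Hyp cert (KK elq []) (fun k => elq (jm [0, 1, 2, 3, 4, 5, 6] k)) := ⟨tree_ok, forall_of_allS subs_ok⟩

theorem hrow : ∀ a < cert.M, row cert a = true := by
  intro a ha
  have ha' : a < 18 := ha
  exact loop_spec row_ok0 a (by omega) (by omega)

theorem col : KK elq [0, 1, 2, 3, 4, 5, 6] ≤ KK elq [] :=
  collapseJ elq [0, 1, 2, 3, 4, 5, 6] [] elq_sq hyp al0 hrow rfl one

end Cfsg.Agent.Lib.Helper19.OrdHe.P0
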