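import Cfsg.Agent.Lib.Helper19.OrdHe.QD
import Cfsg.Agent.Lib.Helper19.TC2R

/-! Generated file: certificates for the order of a presented group. -/

set_option autoImplicit false
set_option maxRecDepth 1000000

namespace Cfsg.Agent.Lib.Helper19.OrdHe.Q0

open Cfsg.Agent.Lib.Helper19.TCS (evn evn_rot evn_rev evn_pair AllS forall_of_allS lift_rels mk_eq_lift cox_swap shapeI prod_rep index_of_equiv orbit_ncard orbit_image ncard_interval fix_of_closure RC)
open Cfsg.Agent.Lib.Helper19.TC2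
open Cfsg.Spor Cfsg.Agent.Lib.Helper19.PresHe
open Cfsg.Agent.Lib.Helper19.OrdHe.QD

noncomputable section

def T0 : Tb := (.node (.leaf 0x1f3f000000000ec900000000124830a4000015c70000363437b339320000000000003eae412d000000000000000000000000000000003138000000005121578e599f5c1e00005f1c0000621a56996598671700000000000000000000000000006f8f5820730d758c00007a0a7b897d827e8780060000828484037e0887008781) (.leaf 0x841000000000e3c11b915360000000000000000000008cc0000))
def J0 : Tb := (.node (.leaf 0x28000000000000000000000100000000000050028014000000000001400e00000000000000000000000000000000000000e001003801c000005000001c00a00700380000000000000000000000003800001800a000001c00a00100600280000070028000002000) (.leaf 0x1000000000200100080000000000000000000000))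
def L0 : Letter := (0, T0, J0)
def T1 : Tb := (.node (.leaf 0xb4a00000000252b000000002aa90000000032a234a316c617c518c4000000001d401c41409a000025bc00002b3900000000000000004d1134353336508f000059185b975e123cb00000402d6489589f5b1e00000000000000005d9d4da4000050217103728775067785798465190000720d748c770b790a718e858000008602) (.leaf 0x1bae1daf))
def J1 : Tb := (.node (.leaf 0x30000000006000000000c01c0000000000000000001800001a00000000000000000000000000003001800001a000006803401c000000000c0060030018000000000000000c000000001800c02000f0070034000000001800c006003000000c000000) (.leaf 0x600e))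
def L1 : Letter := (1, T1, J1)
def T2 : Tb := (.node (.leaf 0x1fad000023ac00000000292a0000000031a30000000036a1381f399e00003c2400003f1a203f233d441828ba46970000000000004c12000000004f0f3734000038b33a3200005f8a610b3fae640e44ab4729000000000000000000006d846e854fa2639900000000609b601c7c0200000000000000006e1184807c8900008503) (.leaf 0x94b0ac10000000000001636173c1839192f1a4200000000))
def J2 : Tb := (.node (.leaf 0x20000022000000004400000000880000000040020010000014000001000000400200100080000000000022000000001000000000000000000040088000028000000000000000000000000080110000010000000002000000800000000000000000020000000000) (.leaf 0xf80500000000000050028014008807c000000))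
def L2 : Letter := (2, T2, J2)
def T3 : Tb := (.node (.leaf 0xa4b00000000000000000000000000000000000033b50000000000003b1d00003d2f1b42419942ac0000452a0000000000004b120000000000000000518e00005a0d5c8c3bb1000000006289422d660767860000000048a84a274ba600000000700352215a9f5d1e00007a82631a00006698681700008300708f7b0a00008384) (.leaf 0x9bf000000000000000000000000000000001aae00001cc0))
def J3 : Tb := (.node (.leaf 0x2e000000000000c00000b800000c017000005c0000000000018000000000000000c00000300180000000000018000006003000000000000000000000000030000000000000001800000000000000000060000000000000) (.leaf 0x3000000000000000000000000000018000017))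
def L3 : Letter := (3, T3, J3)
def T4 : Tb := (.node (.leaf 0x242b0000000029a900000000000000003521000000000000000000003d9a19c31ec0431824bd45972a3a000000000000000000004e0f323735b50000000000000000000000003e2f529943ac462a69076a86000000006c844ca500004ea3530e0000000078025e9d619b000068966a1581806d126f10788b00008205) (.leaf 0x1e2d))
def J4 : Tb := (.node (.leaf 0x1000000000200000000000000010000000000000000000400000000080000020000000000000000000000400000000000000000000000000000002c000000004c02400000000200000000000058000000004000000000000400200100000000000000000) (.leaf 0x8))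
def L4 : Letter := (4, T4, J4)
def T5 : Tb := (.node (.leaf 0x27a926ba000000000000000000000000000000000000000000000000000000000000262a283b000049970000000000000000000000000000000000000000000000000000000000004927000000000000000000000000000000000000000076020000000000000000000080806b156c130000768c00008106) (.leaf 0x0))
def J5 : Tb := (.node (.leaf 0x48070000000000000000000000000000000000000000000000000006c00000000c0000000000000000000000000000000000000000000000000004800000000000000000000000000000000009000000000000000000240000000000000000000) (.leaf 0x0))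
def L5 : Letter := (5, T5, J5)
def T6 : Tb := (.node (.leaf 0x222b213d000000000000000000000000000000000000000000000000000000000000000020ac22be00000000481800000000000000000000000000000000000000000000000000000000000047a800000000000000000000000000000000000000007382000000000000000000007f00000069966b940000740d00007f87) (.leaf 0x0))
def J6 : Tb := (.node (.leaf 0x2c03c000000000000000000000000000000000000000000000000000001d0000000000019000000000000000000000000000000000000000000000000000b000000000000000000000000000000000016000000000000000000580000000000000000000000) (.leaf 0x0))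
def L6 : Letter := (6, T6, J6)
def tC : Tb := (.node (.leaf 0x40e21ab0d2b0000272910a9000030241422000013210000000000003a9d0000069a048205190c980000101700002b982c174a922f910000138f0000128e570e000000002e8a000053890589020e0c070f86540754862c872d062f0400005603000001800000000055022d8202827d020b800f0055802e000100008086800000) (.leaf 0x7c1030e00000dbc113914b6000000000000072e03820000062d))
def tJC : Tb := (.node (.leaf 0x178807002800000d005000000100a00004a0000000000003200022887048443f10000f040001620a900580280001c880006e400100000002800000688c489a22e216101d40e806503209c400001400002c000000003807c88820011728b102421420d88400002000) (.leaf 0x12090000002001000800000000000a0c08000310))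
def tPP : Tb := (.node (.leaf 0x968cac4560ab15488a4152024111028844212108f847833a09c10d046833221808c085c22e1940c98648422091107843c31c00e0c6863041410a10486241121870c30c1450a30414208102082030c1820c60428210106082040021800a004001800800200001000) (.leaf 0x410df82fc07803901b02d01660b211706b815c22d))
def W0 : List Letter := [L0, L0]
def W1 : List Letter := [L0]
def W2 : List Letter := [L1, L1]
def W3 : List Letter := [L2, L2]
def W4 : List Letter := [L0, L2, L0, L2]
def W5 : List Letter := [L3, L3]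
def W6 : List Letter := [L0, L3, L0, L3]
def W7 : List Letter := [L4, L4]
def W8 : List Letter := [L5, L5]
def W9 : List Letter := [L0, L5, L0, L5]
def W10 : List Letter := [L6, L6]
def W11 : List Letter := [L0, L6, L0, L6]
def W12 : List Letter := [L1, L3, L1, L3]
def W13 : List Letter := [L1, L4, L1, L4]
def W14 : List Letter := [L1, L5, L1, L5]
def W15 : List Letter := [L1, L6, L1, L6]
def W16 : List Letter := [L2, L4, L2, L4]
def W17 : List Letter := [L4, L5, L4, L5]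
def W18 : List Letter := [L4, L6, L4, L6]
def W19 : List Letter := [L2, L1, L2, L1, L2, L1]
def W20 : List Letter := [L2, L4, L0, L1, L2, L0, L1, L2, L0, L1]
def W21 : List Letter := [L4, L2, L1, L0, L2, L1, L0, L2, L1, L0]
def W22 : List Letter := [L3, L4, L3, L4, L3, L4]
def W23 : List Letter := [L5, L3, L5, L3, L5, L3]
def W24 : List Letter := [L6, L3, L6, L3, L6, L3]
def W25 : List Letter := [L3, L1, L3, L1]
def W26 : List Letter := [L5, L2, L5, L2]
def W27 : List Letter := [L5, L4, L5, L4]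
def W28 : List Letter := [L6, L2, L6, L2]
def W29 : List Letter := [L6, L4, L6, L4]
def W30 : List Letter := [L2, L3, L2, L3, L2, L3, L2, L3, L2, L0, L3]
def wtree : Tr := (.node (.node (.node (.node (.node (.leaf W0) (.leaf W16)) (.node (.leaf W8) (.leaf W24))) (.node (.node (.leaf W4) (.leaf W20)) (.node (.leaf W12) (.leaf W28)))) (.node (.node (.node (.leaf W2) (.leaf W18)) (.node (.leaf W10) (.leaf W26))) (.node (.node (.leaf W6) (.leaf W22)) (.node (.leaf W14) (.leaf W30))))) (.node (.node (.node (.node (.leaf W1) (.leaf W17)) (.node (.leaf W9) (.leaf W25))) (.node (.node (.leaf W5) (.leaf W21)) (.node (.leaf W13) (.leaf W29)))) (.node (.node (.node (.leaf W3) (.leaf W19)) (.node (.leaf W11) (.leaf W27))) (.node (.node (.leaf W7) (.leaf W23)) (.leaf W15)))))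
def wsubs : List (List Letter × List Letter) := []
def cert : Par := { w := 7, mw := 127, w5 := 12, fw := 16, mf := 65535, jw := 13, mj := 8191, k := 6, km := 63, C := tC, JC := tJC, PP := tPP, D := 4, M := 77, R := 31, S := 32, tree := wtree, subs := wsubs, LS := [L0, L1, L2, L3, L4, L5, L6] }

end

theorem al0 : al cert 0 = true := by decide +kernel

theorem one : loop (fun a => cond (al cert a) (Nat.beq a 0) true) 0 77 = true := by decide +kernel

theorem row_ok0 : loop (row cert) 0 77 = true := by decide +kernel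

theorem hsel : ∀ k < cert.LS.length, (sel cert.LS k).1 = k := by decide

theorem lf0 : (∀ p ∈ W0, p ∈ cert.LS) ∧ ev (fun k => elq (jm [0, 1, 2, 3, 4, 5, 6] k)) W0 = 1 :=
  leaf_okJ cert elq [0, 1, 2, 3, 4, 5, 6] hsel [0, 0] [0, 0] W0 rfl (by decide) rfl (evn_pair elq elq_sq 0)

theorem lf1 : (∀ p ∈ W1, p ∈ cert.LS) ∧ ev (fun k => elq (jm [0, 1, 2, 3, 4, 5, 6] k)) W1 = 1 :=
  leaf_okJ cert elq [0, 1, 2, 3, 4, 5, 6] hsel [0] [0] W1 rfl (by decide) rfl (evn_rot elq [] [0] zq_one)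

theorem lf2 : (∀ p ∈ W2, p ∈ cert.LS) ∧ ev (fun k => elq (jm [0, 1, 2, 3, 4, 5, 6] k)) W2 = 1 :=
  leaf_okJ cert elq [0, 1, 2, 3, 4, 5, 6] hsel [1, 1] [1, 1] W2 rfl (by decide) rfl (evn_pair elq elq_sq 1)

theorem lf3 : (∀ p ∈ W3, p ∈ cert.LS) ∧ ev (fun k => elq (jm [0, 1, 2, 3, 4, 5, 6] k)) W3 = 1 :=
  leaf_okJ cert elq [0, 1, 2, 3, 4, 5, 6] hsel [2, 2] [2, 2] W3 rfl (by decide) rfl (evn_pair elq elq_sq 2)

theorem lf4 : (∀ p ∈ W4, p ∈ cert.LS) ∧ ev (fun k => elq (jm [0, 1, 2, 3, 4, 5, 6] k)) W4 = 1 :=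
  leaf_okJ cert elq [0, 1, 2, 3, 4, 5, 6] hsel [0, 2, 0, 2] [0, 2, 0, 2] W4 rfl (by decide) rfl (q_one (cox_one 0 2))

theorem lf5 : (∀ p ∈ W5, p ∈ cert.LS) ∧ ev (fun k => elq (jm [0, 1, 2, 3, 4, 5, 6] k)) W5 = 1 :=
  leaf_okJ cert elq [0, 1, 2, 3, 4, 5, 6] hsel [3, 3] [3, 3] W5 rfl (by decide) rfl (evn_pair elq elq_sq 3)

theorem lf6 : (∀ p ∈ W6, p ∈ cert.LS) ∧ ev (fun k => elq (jm [0, 1, 2, 3, 4, 5, 6] k)) W6 = 1 :=
  leaf_okJ cert elq [0, 1, 2, 3, 4, 5, 6] hsel [0, 3, 0, 3] [0, 3, 0, 3] W6 rfl (by decide) rfl (q_one (cox_one 0 3))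

theorem lf7 : (∀ p ∈ W7, p ∈ cert.LS) ∧ ev (fun k => elq (jm [0, 1, 2, 3, 4, 5, 6] k)) W7 = 1 :=
  leaf_okJ cert elq [0, 1, 2, 3, 4, 5, 6] hsel [4, 4] [4, 4] W7 rfl (by decide) rfl (evn_pair elq elq_sq 4)

theorem lf8 : (∀ p ∈ W8, p ∈ cert.LS) ∧ ev (fun k => elq (jm [0, 1, 2, 3, 4, 5, 6] k)) W8 = 1 :=
  leaf_okJ cert elq [0, 1, 2, 3, 4, 5, 6] hsel [5, 5] [5, 5] W8 rfl (by decide) rfl (evn_pair elq elq_sq 5)

theorem lf9 : (∀ p ∈ W9, p ∈ cert.LS) ∧ ev (fun k => elq (jm [0, 1, 2, 3, 4, 5, 6] k)) W9 = 1 :=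
  leaf_okJ cert elq [0, 1, 2, 3, 4, 5, 6] hsel [0, 5, 0, 5] [0, 5, 0, 5] W9 rfl (by decide) rfl (q_one (cox_one 0 5))

theorem lf10 : (∀ p ∈ W10, p ∈ cert.LS) ∧ ev (fun k => elq (jm [0, 1, 2, 3, 4, 5, 6] k)) W10 = 1 :=
  leaf_okJ cert elq [0, 1, 2, 3, 4, 5, 6] hsel [6, 6] [6, 6] W10 rfl (by decide) rfl (evn_pair elq elq_sq 6)

theorem lf11 : (∀ p ∈ W11, p ∈ cert.LS) ∧ ev (fun k => elq (jm [0, 1, 2, 3, 4, 5, 6] k)) W11 = 1 :=
  leaf_okJ cert elq [0, 1, 2, 3, 4, 5, 6] hsel [0, 6, 0, 6] [0, 6, 0, 6] W11 rfl (by decide) rfl (q_one (cox_one 0 6))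

theorem lf12 : (∀ p ∈ W12, p ∈ cert.LS) ∧ ev (fun k => elq (jm [0, 1, 2, 3, 4, 5, 6] k)) W12 = 1 :=
  leaf_okJ cert elq [0, 1, 2, 3, 4, 5, 6] hsel [1, 3, 1, 3] [1, 3, 1, 3] W12 rfl (by decide) rfl (q_one (cox_one 1 3))

theorem lf13 : (∀ p ∈ W13, p ∈ cert.LS) ∧ ev (fun k => elq (jm [0, 1, 2, 3, 4, 5, 6] k)) W13 = 1 :=
  leaf_okJ cert elq [0, 1, 2, 3, 4, 5, 6] hsel [1, 4, 1, 4] [1, 4, 1, 4] W13 rfl (by decide) rfl (q_one (cox_one 1 4))

theorem lf14 : (∀ p ∈ W14, p ∈ cert.LS) ∧ ev (fun k => elq (jm [0, 1, 2, 3, 4, 5, 6] k)) W14 = 1 :=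
  leaf_okJ cert elq [0, 1, 2, 3, 4, 5, 6] hsel [1, 5, 1, 5] [1, 5, 1, 5] W14 rfl (by decide) rfl (q_one (cox_one 1 5))

theorem lf15 : (∀ p ∈ W15, p ∈ cert.LS) ∧ ev (fun k => elq (jm [0, 1, 2, 3, 4, 5, 6] k)) W15 = 1 :=
  leaf_okJ cert elq [0, 1, 2, 3, 4, 5, 6] hsel [1, 6, 1, 6] [1, 6, 1, 6] W15 rfl (by decide) rfl (q_one (cox_one 1 6))

theorem lf16 : (∀ p ∈ W16, p ∈ cert.LS) ∧ ev (fun k => elq (jm [0, 1, 2, 3, 4, 5, 6] k)) W16 = 1 :=
  leaf_okJ cert elq [0, 1, 2, 3, 4, 5, 6] hsel [2, 4, 2, 4] [2, 4, 2, 4] W16 rfl (by decide) rfl (q_one (cox_one 2 4))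

theorem lf17 : (∀ p ∈ W17, p ∈ cert.LS) ∧ ev (fun k => elq (jm [0, 1, 2, 3, 4, 5, 6] k)) W17 = 1 :=
  leaf_okJ cert elq [0, 1, 2, 3, 4, 5, 6] hsel [4, 5, 4, 5] [4, 5, 4, 5] W17 rfl (by decide) rfl (q_one (cox_one 4 5))

theorem lf18 : (∀ p ∈ W18, p ∈ cert.LS) ∧ ev (fun k => elq (jm [0, 1, 2, 3, 4, 5, 6] k)) W18 = 1 :=
  leaf_okJ cert elq [0, 1, 2, 3, 4, 5, 6] hsel [4, 6, 4, 6] [4, 6, 4, 6] W18 rfl (by decide) rfl (q_one (cox_one 4 6))

theorem lf19 : (∀ p ∈ W19, p ∈ cert.LS) ∧ ev (fun k => elq (jm [0, 1, 2, 3, 4, 5, 6] k)) W19 = 1 :=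
  leaf_okJ cert elq [0, 1, 2, 3, 4, 5, 6] hsel [2, 1, 2, 1, 2, 1] [2, 1, 2, 1, 2, 1] W19 rfl (by decide) rfl (q_one (cox_one 2 1))

theorem lf20 : (∀ p ∈ W20, p ∈ cert.LS) ∧ ev (fun k => elq (jm [0, 1, 2, 3, 4, 5, 6] k)) W20 = 1 :=
  leaf_okJ cert elq [0, 1, 2, 3, 4, 5, 6] hsel [2, 4, 0, 1, 2, 0, 1, 2, 0, 1] [2, 4, 0, 1, 2, 0, 1, 2, 0, 1] W20 rfl (by decide) rfl (evn_rot elq [0, 1, 2, 0, 1, 2, 0, 1] [2, 4] (evn_rev elq elq_sq _ (q_one xg1_one)))

theorem lf21 : (∀ p ∈ W21, p ∈ cert.LS) ∧ ev (fun k => elq (jm [0, 1, 2, 3, 4, 5, 6] k)) W21 = 1 :=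
  leaf_okJ cert elq [0, 1, 2, 3, 4, 5, 6] hsel [4, 2, 1, 0, 2, 1, 0, 2, 1, 0] [4, 2, 1, 0, 2, 1, 0, 2, 1, 0] W21 rfl (by decide) rfl (evn_rot elq [] [4, 2, 1, 0, 2, 1, 0, 2, 1, 0] (q_one xg1_one))

theorem lf22 : (∀ p ∈ W22, p ∈ cert.LS) ∧ ev (fun k => elq (jm [0, 1, 2, 3, 4, 5, 6] k)) W22 = 1 :=
  leaf_okJ cert elq [0, 1, 2, 3, 4, 5, 6] hsel [3, 4, 3, 4, 3, 4] [3, 4, 3, 4, 3, 4] W22 rfl (by decide) rfl (q_one (cox_one 3 4))

theorem lf23 : (∀ p ∈ W23, p ∈ cert.LS) ∧ ev (fun k => elq (jm [0, 1, 2, 3, 4, 5, 6] k)) W23 = 1 :=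
  leaf_okJ cert elq [0, 1, 2, 3, 4, 5, 6] hsel [5, 3, 5, 3, 5, 3] [5, 3, 5, 3, 5, 3] W23 rfl (by decide) rfl (q_one (cox_one 5 3))

theorem lf24 : (∀ p ∈ W24, p ∈ cert.LS) ∧ ev (fun k => elq (jm [0, 1, 2, 3, 4, 5, 6] k)) W24 = 1 :=
  leaf_okJ cert elq [0, 1, 2, 3, 4, 5, 6] hsel [6, 3, 6, 3, 6, 3] [6, 3, 6, 3, 6, 3] W24 rfl (by decide) rfl (q_one (cox_one 6 3))

theorem lf25 : (∀ p ∈ W25, p ∈ cert.LS) ∧ ev (fun k => elq (jm [0, 1, 2, 3, 4, 5, 6] k)) W25 = 1 :=
  leaf_okJ cert elq [0, 1, 2, 3, 4, 5, 6] hsel [3, 1, 3, 1] [3, 1, 3, 1] W25 rfl (by decide) rfl (q_one (cox_one 3 1))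

theorem lf26 : (∀ p ∈ W26, p ∈ cert.LS) ∧ ev (fun k => elq (jm [0, 1, 2, 3, 4, 5, 6] k)) W26 = 1 :=
  leaf_okJ cert elq [0, 1, 2, 3, 4, 5, 6] hsel [5, 2, 5, 2] [5, 2, 5, 2] W26 rfl (by decide) rfl (q_one (cox_one 5 2))

theorem lf27 : (∀ p ∈ W27, p ∈ cert.LS) ∧ ev (fun k => elq (jm [0, 1, 2, 3, 4, 5, 6] k)) W27 = 1 :=
  leaf_okJ cert elq [0, 1, 2, 3, 4, 5, 6] hsel [5, 4, 5, 4] [5, 4, 5, 4] W27 rfl (by decide) rfl (q_one (cox_one 5 4))

theorem lf28 : (∀ p ∈ W28, p ∈ cert.LS) ∧ ev (fun k => elq (jm [0, 1, 2, 3, 4, 5, 6] k)) W28 = 1 :=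
  leaf_okJ cert elq [0, 1, 2, 3, 4, 5, 6] hsel [6, 2, 6, 2] [6, 2, 6, 2] W28 rfl (by decide) rfl (q_one (cox_one 6 2))

theorem lf29 : (∀ p ∈ W29, p ∈ cert.LS) ∧ ev (fun k => elq (jm [0, 1, 2, 3, 4, 5, 6] k)) W29 = 1 :=
  leaf_okJ cert elq [0, 1, 2, 3, 4, 5, 6] hsel [6, 4, 6, 4] [6, 4, 6, 4] W29 rfl (by decide) rfl (q_one (cox_one 6 4))

theorem lf30 : (∀ p ∈ W30, p ∈ cert.LS) ∧ ev (fun k => elq (jm [0, 1, 2, 3, 4, 5, 6] k)) W30 = 1 :=
  leaf_okJ cert elq [0, 1, 2, 3, 4, 5, 6] hsel [2, 3, 2, 3, 2, 3, 2, 3, 2, 0, 3] [2, 3, 2, 3, 2, 3, 2, 3, 2, 0, 3] W30 rfl (by decide) rfl (evn_rot elq [0, 3] [2, 3, 2, 3, 2, 3, 2, 3, 2] (q_one xg2_one))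

theorem tree_ok : cert.tree.All (fun W => (∀ p ∈ W, p ∈ cert.LS) ∧ ev (fun k => elq (jm [0, 1, 2, 3, 4, 5, 6] k)) W = 1) :=
  ⟨⟨⟨⟨⟨lf0, lf16⟩, ⟨lf8, lf24⟩⟩, ⟨⟨lf4, lf20⟩, ⟨lf12, lf28⟩⟩⟩, ⟨⟨⟨lf2, lf18⟩, ⟨lf10, lf26⟩⟩, ⟨⟨lf6, lf22⟩, ⟨lf14, lf30⟩⟩⟩⟩, ⟨⟨⟨⟨lf1, lf17⟩, ⟨lf9, lf25⟩⟩, ⟨⟨lf5, lf21⟩, ⟨lf13, lf29⟩⟩⟩, ⟨⟨⟨lf3, lf19⟩, ⟨lf11, lf27⟩⟩, ⟨⟨lf7, lf23⟩, lf15⟩⟩⟩⟩

theorem subs_ok : AllS (fun XZ : List Letter × List Letter => (∀ p ∈ XZ.1, p ∈ cert.LS) ∧ (∀ p ∈ XZ.2, p ∈ cert.LS) ∧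
    ev (fun k => elq (jm [0, 1, 2, 3, 4, 5, 6] k)) XZ.1 * ev (fun k => elq (jm [0, 1, 2, 3, 4, 5, 6] k)) XZ.2 ∈ KK elq []) cert.subs :=
  trivial

theorem hyp : Hyp cert (KK elq []) (fun k => elq (jm [0, 1, 2, 3, 4, 5, 6] k)) := ⟨tree_ok, forall_of_allS subs_ok⟩

theorem hrow : ∀ a < cert.M, row cert a = true := by
  intro a ha
  have ha' : a < 77 := ha
  exact loop_spec row_ok0 a (by omega) (by omega)

theorem col : KK elq [0, 1, 2, 3, 4, 5, 6] ≤ KK elq [] :=
  collapseJ elq [0, 1, 2, 3, 4, 5, 6] [] elq_sq hyp al0 hrow rfl one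

end Cfsg.Agent.Lib.Helper19.OrdHe.Q0
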