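import Cfsg.Agent.Lib.Helper19.PresHe
import Cfsg.Agent.Lib.Helper19.TC2R

/-! Generated file: certificates for the order of a presented group. -/

set_option autoImplicit false
set_option maxRecDepth 1000000

namespace Cfsg.Agent.Lib.Helper19.OrdHe.U2

open Cfsg.Agent.Lib.Helper19.TCS (evn evn_rot evn_rev evn_pair AllS forall_of_allS lift_rels mk_eq_lift cox_swap shapeI prod_rep index_of_equiv orbit_ncard orbit_image ncard_interval fix_of_closure RC)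
open Cfsg.Agent.Lib.Helper19.TC2
open Cfsg.Spor Cfsg.Agent.Lib.Helper19.PresHe

noncomputable section

def T0 : Tb := (.leaf 0xd41d32723313d044f4ee58d60c68b72a7c98a89479e6a85b04b83c02c61d20)
def J0 : Tb := (.leaf 0xb01002c0280800a0200580300600c0180801602c0400b01001401816)
def L0 : Letter := (0, T0, J0)
def T1 : Tb := (.leaf 0x3413324d2ef3ae2d13902326286a77467e564c6cb76a809ae4b63be2c80ca1)
def J1 : Tb := (.leaf 0xc0120300300900400801002004008010000000000000c01201801000)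
def L1 : Letter := (1, T1, J1)
def T2 : Tb := (.leaf 0xb21b009434c19346b4ce56d37148f70a7a98878689c4a639a6a45c21c42cc0)
def J2 : Tb := (.leaf 0xe01a01002004008034070000000440880d0080380680400801000001)
def L2 : Letter := (2, T2, J2)
def T3 : Tb := (.leaf 0x721ef0543113eb21350a54d5ec41052e7898c4926907aa28e8ba1ac5bc3d00)
def J3 : Tb := (.leaf 0xf00e01c0a80700001c078120000000900701e01c0380000e00000017)
def L3 : Letter := (3, T3, J3)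
def T4 : Tb := (.leaf 0xf117028c11415342f4ae5a92b266b6ea5cd845963a02828b21987a26b44ce0)
def J4 : Tb := (.leaf 0xa0200280000a0280400500002604c000100140280500a00000000018)
def L4 : Letter := (4, T4, J4)
def tC : Tb := (.leaf 0x0)
def tJC : Tb := (.leaf 0x0)
def tPP : Tb := (.leaf 0x4918df2322646b8971aa44c2884f09a12c6490720a314818c310610400)
def W0 : List Letter := [L2, L4, L3, L4, L3]
def W1 : List Letter := [L1, L1]
def W2 : List Letter := [L0, L1, L0, L1]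
def W3 : List Letter := [L2, L2]
def W4 : List Letter := [L0, L2, L0, L2]
def W5 : List Letter := [L1, L2, L1, L2, L1, L2]
def W6 : List Letter := [L3, L3]
def W7 : List Letter := [L0, L3, L0, L3]
def W8 : List Letter := [L1, L3, L1, L3, L1, L3]
def W9 : List Letter := [L4, L4]
def W10 : List Letter := [L0, L4, L0, L4]
def W11 : List Letter := [L1, L4, L1, L4, L1, L4]
def W12 : List Letter := [L2, L3, L2, L3]
def W13 : List Letter := [L2, L4, L2, L4]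
def W14 : List Letter := [L3, L4, L3, L2, L4]
def W15 : List Letter := [L4, L3, L2, L4, L3]
def W16 : List Letter := [L2, L1, L2, L1, L2, L1]
def W17 : List Letter := [L3, L1, L3, L1, L3, L1]
def W18 : List Letter := [L4, L1, L4, L1, L4, L1]
def W19 : List Letter := [L4, L2, L4, L2]
def W20 : List Letter := [L3, L2, L3, L2]
def wtree : Tr := (.node (.node (.node (.node (.node (.leaf W0) (.leaf W16)) (.leaf W8)) (.node (.node (.leaf W4) (.leaf W20)) (.leaf W12))) (.node (.node (.node (.leaf W2) (.leaf W18)) (.leaf W10)) (.node (.leaf W6) (.leaf W14)))) (.node (.node (.node (.node (.leaf W1) (.leaf W17)) (.leaf W9)) (.node (.leaf W5) (.leaf W13))) (.node (.node (.node (.leaf W3) (.leaf W19)) (.leaf W11)) (.node (.leaf W7) (.leaf W15)))))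
def wsubs : List (List Letter × List Letter) := [([], [L0]), ([], [L3]), ([], [L4])]
def cert : Par := { w := 5, mw := 31, w5 := 10, fw := 12, mf := 4095, jw := 11, mj := 2047, k := 6, km := 63, C := tC, JC := tJC, PP := tPP, D := 1, M := 21, R := 21, S := 25, tree := wtree, subs := wsubs, LS := [L0, L1, L2, L3, L4] }

end

theorem al0 : al cert 0 = true := by decide +kernel

theorem cnt : cntA (al cert) 21 0 = 21 := by decide +kernel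

theorem row_ok0 : loop (row cert) 0 21 = true := by decide +kernel

theorem hsel : ∀ k < cert.LS.length, (sel cert.LS k).1 = k := by decide

theorem lf0 : (∀ p ∈ W0, p ∈ cert.LS) ∧ ev (fun k => el (jm [0, 3, 4, 5, 6] k)) W0 = 1 :=
  leaf_okJ cert el [0, 3, 4, 5, 6] hsel [2, 4, 3, 4, 3] [4, 6, 5, 6, 5] W0 rfl (by decide) rfl (evn_rot el [] [4, 6, 5, 6, 5] xg0_one)

theorem lf1 : (∀ p ∈ W1, p ∈ cert.LS) ∧ ev (fun k => el (jm [0, 3, 4, 5, 6] k)) W1 = 1 :=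
  leaf_okJ cert el [0, 3, 4, 5, 6] hsel [1, 1] [3, 3] W1 rfl (by decide) rfl (evn_pair el el_sq 3)

theorem lf2 : (∀ p ∈ W2, p ∈ cert.LS) ∧ ev (fun k => el (jm [0, 3, 4, 5, 6] k)) W2 = 1 :=
  leaf_okJ cert el [0, 3, 4, 5, 6] hsel [0, 1, 0, 1] [0, 3, 0, 3] W2 rfl (by decide) rfl (cox_one 0 3)

theorem lf3 : (∀ p ∈ W3, p ∈ cert.LS) ∧ ev (fun k => el (jm [0, 3, 4, 5, 6] k)) W3 = 1 :=
  leaf_okJ cert el [0, 3, 4, 5, 6] hsel [2, 2] [4, 4] W3 rfl (by decide) rfl (evn_pair el el_sq 4)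

theorem lf4 : (∀ p ∈ W4, p ∈ cert.LS) ∧ ev (fun k => el (jm [0, 3, 4, 5, 6] k)) W4 = 1 :=
  leaf_okJ cert el [0, 3, 4, 5, 6] hsel [0, 2, 0, 2] [0, 4, 0, 4] W4 rfl (by decide) rfl (cox_one 0 4)

theorem lf5 : (∀ p ∈ W5, p ∈ cert.LS) ∧ ev (fun k => el (jm [0, 3, 4, 5, 6] k)) W5 = 1 :=
  leaf_okJ cert el [0, 3, 4, 5, 6] hsel [1, 2, 1, 2, 1, 2] [3, 4, 3, 4, 3, 4] W5 rfl (by decide) rfl (cox_one 3 4)

theorem lf6 : (∀ p ∈ W6, p ∈ cert.LS) ∧ ev (fun k => el (jm [0, 3, 4, 5, 6] k)) W6 = 1 :=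
  leaf_okJ cert el [0, 3, 4, 5, 6] hsel [3, 3] [5, 5] W6 rfl (by decide) rfl (evn_pair el el_sq 5)

theorem lf7 : (∀ p ∈ W7, p ∈ cert.LS) ∧ ev (fun k => el (jm [0, 3, 4, 5, 6] k)) W7 = 1 :=
  leaf_okJ cert el [0, 3, 4, 5, 6] hsel [0, 3, 0, 3] [0, 5, 0, 5] W7 rfl (by decide) rfl (cox_one 0 5)

theorem lf8 : (∀ p ∈ W8, p ∈ cert.LS) ∧ ev (fun k => el (jm [0, 3, 4, 5, 6] k)) W8 = 1 :=
  leaf_okJ cert el [0, 3, 4, 5, 6] hsel [1, 3, 1, 3, 1, 3] [3, 5, 3, 5, 3, 5] W8 rfl (by decide) rfl (cox_one 3 5)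

theorem lf9 : (∀ p ∈ W9, p ∈ cert.LS) ∧ ev (fun k => el (jm [0, 3, 4, 5, 6] k)) W9 = 1 :=
  leaf_okJ cert el [0, 3, 4, 5, 6] hsel [4, 4] [6, 6] W9 rfl (by decide) rfl (evn_pair el el_sq 6)

theorem lf10 : (∀ p ∈ W10, p ∈ cert.LS) ∧ ev (fun k => el (jm [0, 3, 4, 5, 6] k)) W10 = 1 :=
  leaf_okJ cert el [0, 3, 4, 5, 6] hsel [0, 4, 0, 4] [0, 6, 0, 6] W10 rfl (by decide) rfl (cox_one 0 6)

theorem lf11 : (∀ p ∈ W11, p ∈ cert.LS) ∧ ev (fun k => el (jm [0, 3, 4, 5, 6] k)) W11 = 1 :=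
  leaf_okJ cert el [0, 3, 4, 5, 6] hsel [1, 4, 1, 4, 1, 4] [3, 6, 3, 6, 3, 6] W11 rfl (by decide) rfl (cox_one 3 6)

theorem lf12 : (∀ p ∈ W12, p ∈ cert.LS) ∧ ev (fun k => el (jm [0, 3, 4, 5, 6] k)) W12 = 1 :=
  leaf_okJ cert el [0, 3, 4, 5, 6] hsel [2, 3, 2, 3] [4, 5, 4, 5] W12 rfl (by decide) rfl (cox_one 4 5)

theorem lf13 : (∀ p ∈ W13, p ∈ cert.LS) ∧ ev (fun k => el (jm [0, 3, 4, 5, 6] k)) W13 = 1 :=
  leaf_okJ cert el [0, 3, 4, 5, 6] hsel [2, 4, 2, 4] [4, 6, 4, 6] W13 rfl (by decide) rfl (cox_one 4 6)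

theorem lf14 : (∀ p ∈ W14, p ∈ cert.LS) ∧ ev (fun k => el (jm [0, 3, 4, 5, 6] k)) W14 = 1 :=
  leaf_okJ cert el [0, 3, 4, 5, 6] hsel [3, 4, 3, 2, 4] [5, 6, 5, 4, 6] W14 rfl (by decide) rfl (evn_rot el [4, 6] [5, 6, 5] xg0_one)

theorem lf15 : (∀ p ∈ W15, p ∈ cert.LS) ∧ ev (fun k => el (jm [0, 3, 4, 5, 6] k)) W15 = 1 :=
  leaf_okJ cert el [0, 3, 4, 5, 6] hsel [4, 3, 2, 4, 3] [6, 5, 4, 6, 5] W15 rfl (by decide) rfl (evn_rot el [4, 6, 5] [6, 5] xg0_one)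

theorem lf16 : (∀ p ∈ W16, p ∈ cert.LS) ∧ ev (fun k => el (jm [0, 3, 4, 5, 6] k)) W16 = 1 :=
  leaf_okJ cert el [0, 3, 4, 5, 6] hsel [2, 1, 2, 1, 2, 1] [4, 3, 4, 3, 4, 3] W16 rfl (by decide) rfl (cox_one 4 3)

theorem lf17 : (∀ p ∈ W17, p ∈ cert.LS) ∧ ev (fun k => el (jm [0, 3, 4, 5, 6] k)) W17 = 1 :=
  leaf_okJ cert el [0, 3, 4, 5, 6] hsel [3, 1, 3, 1, 3, 1] [5, 3, 5, 3, 5, 3] W17 rfl (by decide) rfl (cox_one 5 3)

theorem lf18 : (∀ p ∈ W18, p ∈ cert.LS) ∧ ev (fun k => el (jm [0, 3, 4, 5, 6] k)) W18 = 1 :=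
  leaf_okJ cert el [0, 3, 4, 5, 6] hsel [4, 1, 4, 1, 4, 1] [6, 3, 6, 3, 6, 3] W18 rfl (by decide) rfl (cox_one 6 3)

theorem lf19 : (∀ p ∈ W19, p ∈ cert.LS) ∧ ev (fun k => el (jm [0, 3, 4, 5, 6] k)) W19 = 1 :=
  leaf_okJ cert el [0, 3, 4, 5, 6] hsel [4, 2, 4, 2] [6, 4, 6, 4] W19 rfl (by decide) rfl (cox_one 6 4)

theorem lf20 : (∀ p ∈ W20, p ∈ cert.LS) ∧ ev (fun k => el (jm [0, 3, 4, 5, 6] k)) W20 = 1 :=
  leaf_okJ cert el [0, 3, 4, 5, 6] hsel [3, 2, 3, 2] [5, 4, 5, 4] W20 rfl (by decide) rfl (cox_one 5 4)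

theorem tree_ok : cert.tree.All (fun W => (∀ p ∈ W, p ∈ cert.LS) ∧ ev (fun k => el (jm [0, 3, 4, 5, 6] k)) W = 1) :=
  ⟨⟨⟨⟨⟨lf0, lf16⟩, lf8⟩, ⟨⟨lf4, lf20⟩, lf12⟩⟩, ⟨⟨⟨lf2, lf18⟩, lf10⟩, ⟨lf6, lf14⟩⟩⟩, ⟨⟨⟨⟨lf1, lf17⟩, lf9⟩, ⟨lf5, lf13⟩⟩, ⟨⟨⟨lf3, lf19⟩, lf11⟩, ⟨lf7, lf15⟩⟩⟩⟩

theorem subs_ok : AllS (fun XZ : List Letter × List Letter => (∀ p ∈ XZ.1, p ∈ cert.LS) ∧ (∀ p ∈ XZ.2, p ∈ cert.LS) ∧
    ev (fun k => el (jm [0, 3, 4, 5, 6] k)) XZ.1 * ev (fun k => el (jm [0, 3, 4, 5, 6] k)) XZ.2 ∈ KK el [0, 5, 6]) cert.subs :=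
  ⟨sub_ok cert _ (KK el [0, 5, 6]) hsel [] [0] _ _ rfl rfl (by decide) (sub_memJ el [0, 3, 4, 5, 6] [0, 5, 6] 0 (by decide)), sub_ok cert _ (KK el [0, 5, 6]) hsel [] [3] _ _ rfl rfl (by decide) (sub_memJ el [0, 3, 4, 5, 6] [0, 5, 6] 3 (by decide)), sub_ok cert _ (KK el [0, 5, 6]) hsel [] [4] _ _ rfl rfl (by decide) (sub_memJ el [0, 3, 4, 5, 6] [0, 5, 6] 4 (by decide)), trivial⟩

theorem hyp : Hyp cert (KK el [0, 5, 6]) (fun k => el (jm [0, 3, 4, 5, 6] k)) := ⟨tree_ok, forall_of_allS subs_ok⟩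

theorem hrow : ∀ a < cert.M, row cert a = true := by
  intro a ha
  have ha' : a < 21 := ha
  exact loop_spec row_ok0 a (by omega) (by omega)

theorem ub (hf : Finite (KK el [0, 5, 6])) : Finite (KK el [0, 3, 4, 5, 6]) ∧ Nat.card (KK el [0, 3, 4, 5, 6]) ≤ 21 * Nat.card (KK el [0, 5, 6]) :=
  ub_stepJ el [0, 3, 4, 5, 6] [0, 5, 6] el_sq hyp al0 hrow rfl cnt hf

end Cfsg.Agent.Lib.Helper19.OrdHe.U2
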